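import Cfsg.Agent.H75.FFour.Weyl

/-!
Elements of prime order of F4 in characteristic two conjugated into the split torus over the
extension, and the orders of the field size.
-/
set_option autoImplicit false
set_option maxRecDepth 100000

namespace Cfsg.Agent.H75.FFour

open Cfsg.Lie Cfsg.Agent.H37 Cfsg.Agent.H37.RootSys Cfsg.Agent.Chevalley.Weights Matrix
open Cfsg.Agent.Chevalley.TwTorus
open Cfsg.Agent.Chevalley (cor pairingSum)
open Polynomial (cyclotomic)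

variable {F : Type*} [Field F] [Fintype F] [CharP F 2] {r : ℕ} [hr : Fact r.Prime]

theorem not_dvd_card (hr2 : r ≠ 2) : ¬ r ∣ Nat.card F := by
  obtain ⟨m, -, hm⟩ := FiniteField.card F 2
  rw [Nat.card_eq_fintype_card, hm]
  exact fun h => hr2 ((Nat.prime_dvd_prime_iff_eq hr.out Nat.prime_two).1 (hr.out.dvd_of_dvd_pow h))

theorem order_mem (hr2 : r ≠ 2) (hrG : r ∣ Nat.card ↥(chevF4.group F)) :
    orderOf (Nat.card F : ZMod r) ∈ ({1, 2, 3, 4, 6, 8, 12} : Finset ℕ) := by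
  have hcard := (H37.Chev.dataF4 F).card_group (degs := [2, 6, 8, 12]) H37.Weyl.degsF4 rfl (d := 1)
    (H37.Chev.diag_F4 F)
  rw [one_mul] at hcard
  rw [hcard] at hrG
  exact order_cases hrG (not_dvd_card hr2)

/-- The extension splits every relevant prime. -/
theorem dvd_ext_of_mem {k : ℕ} (hk : orderOf (Nat.card F : ZMod r) = k)
    (hmem : k ∈ ({1, 2, 3, 4, 6, 8, 12} : Finset ℕ)) : r ∣ Nat.card (Ext F) - 1 := by
  refine dvd_ext (hk.symm ▸ ?_)
  simp only [Finset.mem_insert, Finset.mem_singleton] at hmem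
  rcases hmem with rfl | rfl | rfl | rfl | rfl | rfl | rfl <;> norm_num

theorem five_le_of_three_le {k : ℕ} (hk : orderOf (Nat.card F : ZMod r) = k) (h3 : 3 ≤ k) :
    5 ≤ r := by
  have h := order_lt hk (by omega)
  have : r ≠ 4 := fun h4 => by
    have := hr.out
    rw [h4] at this
    norm_num at this
  omega

theorem not_dvd_weyl (h5 : 5 ≤ r) : ¬ r ∣ 1152 := fun h => by
  rcases (Nat.Prime.dvd_mul hr.out).1 (show r ∣ 2 ^ 7 * 3 ^ 2 from by simpa using h) with h | h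
  · have := Nat.le_of_dvd (by norm_num) (hr.out.dvd_of_dvd_pow h); omega
  · have := Nat.le_of_dvd (by norm_num) (hr.out.dvd_of_dvd_pow h); omega

/-- An element of order `r` of the group as a conjugate of a torus element. -/
theorem exists_frame (hrE : r ∣ Nat.card (Ext F) - 1) (h5 : 5 ≤ r) {z : ↥(chevF4.group F)}
    (hz : orderOf z = r) :
    ∃ g b, g⁻¹ * iota F z * g = T F r b ∧ ∃ j, ¬ (r : ℤ) ∣ b j := by
  have hzr : z ^ r = 1 := hz ▸ pow_orderOf_eq_one z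
  obtain ⟨g, hg⟩ := conj_into (not_dvd_index hrE h5) (show iota F z ^ r = 1 by rw [← map_pow, hzr, map_one])
  obtain ⟨b, hb⟩ := exists_T hrE hg (by
    rw [show g⁻¹ * iota F z * g = g⁻¹ * iota F z * g⁻¹⁻¹ by rw [inv_inv], conj_pow, ← map_pow, hzr,
      map_one, mul_one, mul_inv_cancel])
  refine ⟨g, b, hb, ?_⟩
  by_contra h
  push Not at h
  rw [(T_eq_one_iff hrE).2 h] at hb
  have h1 : iota F z = 1 := by
    have h2 : g⁻¹ * iota F z = g⁻¹ := mul_eq_one_iff_eq_inv.1 hb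
    exact mul_eq_left.1 h2
  have h3 : z = 1 := iota_injective F (h1.trans (map_one _).symm)
  rw [h3, orderOf_one] at hz
  exact hr.out.one_lt.ne hz

theorem pr_smul_dvd (hrq : ¬ r ∣ Nat.card F) {b : Vec F} {t : ℕ}
    (h : ¬ (r : ℤ) ∣ pr (QE F).X.n chevF4 t b) :
    ¬ (r : ℤ) ∣ pr (QE F).X.n chevF4 t ((Nat.card F : ℤ) • b) := fun hd => by
  rw [pr_smul] at hd
  rcases (Nat.prime_iff_prime_int.1 hr.out).dvd_or_dvd hd with hd | hd
  · exact hrq (Int.natCast_dvd_natCast.1 hd)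
  · exact h hd

/-- The centraliser of a pair of torus elements with no common root. -/
theorem mem_H_of_pair (hrE : r ∣ Nat.card (Ext F) - 1) (h5 : 5 ≤ r) {b c : Vec F}
    (hreg : ∀ t, t < chevF4.nroots → ¬ (r : ℤ) ∣ pr (QE F).X.n chevF4 t b ∨
      ¬ (r : ℤ) ∣ pr (QE F).X.n chevF4 t c)
    {g : GE F} (hb : T F r b * g = g * T F r b) (hc : T F r c * g = g * T F r c) :
    g ∈ (QE F).sys.H := by
  refine mem_H_of_comm (QE F) (T_mem F r b) (T_mem F r c)
    (fun t ht => (hreg t ht).imp (fun h => T_moves hrE ht h) (fun h => T_moves hrE ht h))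
    (fun w h1 h2 => ?_) hb hc (RE F)
  rw [rep_T, T_eq_iff hrE] at h1 h2
  exact stab_pair (QE F) (diag_ext F) (det_ne_zero F) (r := r)
    (by rw [card_weyl]; exact not_dvd_weyl h5) hreg h1 h2

/-- The twisting element is a representative up to the torus. -/
theorem exists_rep_twist (hrE : r ∣ Nat.card (Ext F) - 1) (h5 : 5 ≤ r) {b c : Vec F}
    (hreg : ∀ t, t < chevF4.nroots → ¬ (r : ℤ) ∣ pr (QE F).X.n chevF4 t b ∨
      ¬ (r : ℤ) ∣ pr (QE F).X.n chevF4 t c)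
    {nn : GE F} (hb : T F r b * nn = nn * T F r ((Nat.card F : ℤ) • b))
    (hc : T F r c * nn = nn * T F r ((Nat.card F : ℤ) • c)) {w : (QE F).X.M.Group}
    (hwb : (QE F).sys.rep w * T F r ((Nat.card F : ℤ) • b) * ((QE F).sys.rep w)⁻¹ = T F r b)
    (hwc : (QE F).sys.rep w * T F r ((Nat.card F : ℤ) • c) * ((QE F).sys.rep w)⁻¹ = T F r c) :
    ∃ h ∈ (QE F).sys.H, nn = (QE F).sys.rep w * h := by
  have hrq : ¬ r ∣ Nat.card F := not_dvd_card (by omega)
  refine ⟨((QE F).sys.rep w)⁻¹ * nn, ?_, by group⟩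
  have key : ∀ x : Vec F, T F r x * nn = nn * T F r ((Nat.card F : ℤ) • x) →
      (QE F).sys.rep w * T F r ((Nat.card F : ℤ) • x) * ((QE F).sys.rep w)⁻¹ = T F r x →
      T F r ((Nat.card F : ℤ) • x) * (((QE F).sys.rep w)⁻¹ * nn)
        = ((QE F).sys.rep w)⁻¹ * nn * T F r ((Nat.card F : ℤ) • x) := by
    intro x h1 h2
    rw [mul_assoc ((QE F).sys.rep w)⁻¹ nn, ← h1, ← h2]
    group
  exact mem_H_of_pair hrE h5 (fun t ht => (hreg t ht).imp (pr_smul_dvd hrq) (pr_smul_dvd hrq))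
    (key b hb hwb) (key c hc hwc)

/-- An eigenvector for a prime of order 8 or 12 is regular. -/
theorem regular_of_big {l : ℕ} (hl : orderOf (Nat.card F : ZMod r) = l) (hl8 : l = 8 ∨ l = 12)
    {b : Vec F} (hb : ∃ j, ¬ (r : ℤ) ∣ b j) {w : (QE F).X.M.Group}
    (hM : ∀ j, (r : ℤ) ∣ (wmat (QE F) w⁻¹).mulVec b j - (Nat.card F : ℤ) * b j) :
    Polynomial.aeval (wmat (QE F) w⁻¹) (cyclotomic l ℤ) = 0 ∧
      ∀ t, t < chevF4.nroots → ¬ (r : ℤ) ∣ pr (QE F).X.n chevF4 t b := by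
  have hl0 : 0 < l := by omega
  obtain ⟨hldvd, hlt⟩ := order_lt hl hl0
  have hdl : ¬ r ∣ l := fun h => by have := Nat.le_of_dvd hl0 h; omega
  have htot : l.totient = (QE F).X.n := by
    rcases hl8 with rfl | rfl <;> (show Nat.totient _ = 4) <;> decide
  have hM0 : Polynomial.aeval (wmat (QE F) w⁻¹) (cyclotomic l ℤ) = 0 :=
    cyclo_aeval (N := 1152) (r := r) (b := b) (q := (Nat.card F : ℤ)) _ htot (by norm_num)
      (wmat_pow_card F _) (not_dvd_weyl (by omega)) hdl (dvd_cyclotomic_eval hl hl0) hb hM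
  refine ⟨hM0, fun t ht hdiv => ?_⟩
  obtain ⟨D0, hD0, hD0le, hker⟩ := root_bound (QE F) (diag_ext F) (natAbs_det F) htot hl0 w hM0
    gramF4 rootF4 (c := 2) (L := 4) (Bd := 8) (by norm_num) gramF4_eq
    (lt_of_lt_of_eq (by norm_num : 0 < 4) natAbs_gramF4.symm)
    (fun s hs => quadF4 ⟨s, hs⟩)
    (by
      show ((4 : ℕ) : ℤ) ^ 4 ≤ (gramF4.det.natAbs : ℤ) * ((8 : ℕ) : ℤ) ^ 2
      rw [natAbs_gramF4]; norm_num) ht
  obtain ⟨j, hj⟩ := hb
  rcases (Nat.prime_iff_prime_int.1 hr.out).dvd_or_dvd (hker r (Nat.card F) b hdiv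
    (fun i => by simpa using (hM i).neg_right) j) with h | h
  · have := Nat.le_of_dvd hD0 (Int.natCast_dvd_natCast.1 h)
    omega
  · exact hj h

omit [CharP F 2] hr in
theorem split_order {G : Type*} [Group G] {x : G} {a b : ℕ} (ha : 0 < a) (hb : 0 < b)
    (hx : orderOf x = a * b) : orderOf (x ^ b) = a ∧ orderOf (x ^ a) = b ∧ Commute (x ^ b) (x ^ a) := by
  refine ⟨?_, ?_, (Commute.refl x).pow_pow _ _⟩
  · rw [orderOf_pow' _ hb.ne', hx, Nat.gcd_eq_right (dvd_mul_left b a), Nat.mul_div_cancel _ hb]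
  · rw [orderOf_pow' _ ha.ne', hx, Nat.gcd_eq_right (dvd_mul_right a b), Nat.mul_div_cancel_left _ ha]

end Cfsg.Agent.H75.FFour
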