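import Cfsg.Agent.H37.Chev.Parabolic
import Cfsg.Agent.H37.Chev.All
import Cfsg.Agent.H37.Chev.Result
import Cfsg.Agent.H37.Chev.Order
import Cfsg.Agent.Chevalley.SL2Hom
import Cfsg.Agent.Chevalley.RankOne
import Cfsg.Agent.Linear.Order

/-!
F4 over a finite field of characteristic two: elements of prime order commuting with the root
subgroups of the highest root and its negative, from the order of a parabolic subgroup.
-/
set_option autoImplicit false
set_option maxRecDepth 100000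
set_option linter.unusedSectionVars false

namespace Cfsg.Agent.H75.FFour

open Cfsg.Lie Cfsg.Agent.H37 Cfsg.Agent.H37.RootSys
open Cfsg.Agent.H54.Presentation Cfsg.Agent.H87
open Cfsg.Agent.Chevalley (cor pairingSum)

/-- The nodes orthogonal to the highest root. -/
def nodes : Set ℕ := {i | i < 3}

/-- The table of the roots with last coefficient zero. -/
def orthB (r : ℕ) : Bool :=
  !((chevF4.coroot.getD r #[]).getD 3 0 == 0) ||
    ((r != 47) && (r != 0) && (chevF4.commTerms r 47).isEmpty && (chevF4.commTerms r 0).isEmpty)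

theorem check_orth : (List.range 48).all orthB = true := by decide +kernel

theorem step_lengths : ((List.range 3).map fun k => (Weyl.lev Weyl.certF4 k).words.map List.length)
    = [[0, 1], [0, 1, 2], [0, 1, 2, 3, 3, 4, 5, 6]] := by decide +kernel

variable (F : Type*) [Field F] [Fintype F]

/-- The data over the base field. -/
noncomputable abbrev QF : H37.Chev.Data chevF4 F := H37.Chev.dataF4 F

/-- The parabolic subgroup of the three nodes. -/
noncomputable def parab : Subgroup ↥(chevF4.group F) :=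
  (QF F).amb.pair.parabolic ((QF F).amb.n '' ((QF F).X.M.simple '' {i | i.val < 3}))

theorem gens_subset : (QF F).amb.n '' ((QF F).X.M.simple '' {i | i.val < 3})
    ⊆ (QF F).amb.pair.S := by
  rintro _ ⟨_, ⟨i, -, rfl⟩, rfl⟩
  exact ⟨_, ⟨i, rfl⟩, rfl⟩

theorem n_mem_parab {w : (QF F).X.M.Group} (hw : w ∈ Weyl.K (QF F).X.M 3) :
    (QF F).amb.n w ∈ parab F := by
  have hH : ∀ h ∈ (QF F).amb.H, h ∈ parab F := fun h hh =>
    H27.BN.B_le_parabolic _ _ ((QF F).amb.H_le_B hh)
  induction hw using Subgroup.closure_induction with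
  | mem w hw =>
    obtain ⟨i, hi, rfl⟩ := hw
    refine H27.BN.subset_parabolic _ ⟨_, ⟨⟨i, lt_trans (show i < 3 from hi) (show 3 < 4 by norm_num)⟩, hi, ?_⟩, rfl⟩
    unfold Weyl.gen
    split
    · rfl
    · exact absurd (lt_trans (show i < 3 from hi) (show 3 < 4 by norm_num)) ‹_›
  | one => rw [(QF F).amb.n_one]; exact one_mem _
  | mul a b _ _ iha ihb =>
    obtain ⟨h, hh, e⟩ := (QF F).amb.n_mul a b
    rw [show (QF F).amb.n (a * b) = h⁻¹ * ((QF F).amb.n a * (QF F).amb.n b) by rw [e]; group]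
    exact mul_mem (inv_mem (hH h hh)) (mul_mem iha ihb)
  | inv a _ iha =>
    obtain ⟨h, hh, e⟩ := (QF F).amb.n_inv a
    rw [show (QF F).amb.n a⁻¹ = h⁻¹ * ((QF F).amb.n a)⁻¹ by rw [e]; group]
    exact mul_mem (inv_mem (hH h hh)) (inv_mem iha)

theorem mem_parab_iff {g : ↥(chevF4.group F)} :
    g ∈ parab F ↔ ∃ w ∈ Weyl.K (QF F).X.M 3, g ∈ H27.BN.cell (QF F).amb.pair ((QF F).amb.n w) := by
  constructor
  · intro hg
    obtain ⟨l, hl, hg⟩ := (H27.BN.mem_parabolic_iff _ (gens_subset F)).1 hg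
    obtain ⟨w, hw, h, hh, e⟩ : ∃ w ∈ Weyl.K (QF F).X.M 3, ∃ h ∈ (QF F).amb.H,
        l.prod = h * (QF F).amb.n w := by
      clear hg
      induction l with
      | nil => exact ⟨1, one_mem _, 1, one_mem _, by simp [(QF F).amb.n_one]⟩
      | cons x l ih =>
        obtain ⟨w, hw, h, hh, e⟩ := ih fun y hy => hl y (List.mem_cons_of_mem _ hy)
        obtain ⟨_, ⟨i, hi, rfl⟩, rfl⟩ := hl x (List.mem_cons_self ..)
        obtain ⟨k, hk, ek⟩ := (QF F).amb.n_mul ((QF F).X.M.simple i) w
        refine ⟨(QF F).X.M.simple i * w, mul_mem ?_ hw,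
          (QF F).amb.n ((QF F).X.M.simple i) * h * ((QF F).amb.n ((QF F).X.M.simple i))⁻¹ * k,
          mul_mem ((QF F).amb.n_conj_H _ h hh) hk, ?_⟩
        · have hg := Weyl.gen_mem_K (M := (QF F).X.M) (k := 3) hi
          simpa [Weyl.gen] using hg
        · rw [List.prod_cons, e, mul_assoc _ k, ← ek]; group
    refine ⟨w, hw, ?_⟩
    rw [e] at hg
    refine H27.BN.cell_subset_of_mem _ ((H27.BN.mem_cell _).2 ?_) hg
    exact ⟨h, (QF F).amb.H_le_B hh, 1, one_mem _, by group⟩
  · rintro ⟨w, hw, hg⟩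
    obtain ⟨b, hb, c, hc, rfl⟩ := (H27.BN.mem_cell _).1 hg
    exact mul_mem (mul_mem (H27.BN.B_le_parabolic _ _ hb) (n_mem_parab F hw))
      (H27.BN.B_le_parabolic _ _ hc)

theorem card_parab : Nat.card (parab F) = Fintype.card F ^ 24 * (Fintype.card F - 1) ^ 4 *
    ((1 + Fintype.card F) * (1 + Fintype.card F + Fintype.card F ^ 2) *
      (1 + Fintype.card F + Fintype.card F ^ 2 + Fintype.card F ^ 3 + Fintype.card F ^ 3 +
        Fintype.card F ^ 4 + Fintype.card F ^ 5 + Fintype.card F ^ 6)) := by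
  classical
  haveI := (QF F).X.good.finite
  haveI : Fintype (QF F).X.M.Group := Fintype.ofFinite _
  haveI : Fintype ↥(Weyl.K (QF F).X.M 3) := Fintype.ofFinite _
  let f : ↥(QF F).amb.U × ↥(QF F).amb.H ×
      (Σ w : ↥(Weyl.K (QF F).X.M 3), ↥((QF F).amb.Uw w.1)) → ↥(parab F) := fun p =>
    ⟨p.1.1 * p.2.1.1 * (QF F).amb.n p.2.2.1.1 * p.2.2.2.1,
      (mem_parab_iff F).2 ⟨_, p.2.2.1.2, (QF F).amb.mem_cell_nf p.1.2 p.2.1.2 p.2.2.2.2⟩⟩
  have hf : Function.Bijective f := by
    constructor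
    · rintro ⟨⟨u, hu⟩, ⟨h, hh⟩, ⟨w, hw⟩, ⟨v, hv⟩⟩ ⟨⟨u', hu'⟩, ⟨h', hh'⟩, ⟨w', hw'⟩, ⟨v', hv'⟩⟩ e
      obtain ⟨rfl, rfl, rfl, rfl⟩ := (QF F).amb.unique hu hu' hh hh' hv hv' (congrArg Subtype.val e)
      rfl
    · rintro ⟨g, hg⟩
      obtain ⟨w, hw, hc⟩ := (mem_parab_iff F).1 hg
      obtain ⟨u, hu, h, hh, w', v, hv, rfl⟩ := (QF F).amb.exists_eq g
      have hww : w' = w := (QF F).amb.n_inj_B (H27.BN.eqv_of_mem_cells (QF F).amb.pair
        ((QF F).amb.n_mem_N w') ((QF F).amb.n_mem_N w) ((QF F).amb.mem_cell_nf hu hh hv) hc)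
      subst hww
      exact ⟨⟨⟨u, hu⟩, ⟨h, hh⟩, ⟨⟨w', hw⟩, ⟨v, hv⟩⟩⟩, rfl⟩
  have hH : Nat.card (QF F).amb.H = (Fintype.card F - 1) ^ 4 := by
    rw [(QF F).card_H, ← Nat.card_eq_fintype_card]
    exact (one_mul _).symm.trans (H37.Chev.diag_F4 F)
  rw [← Nat.card_congr (Equiv.ofBijective f hf), Nat.card_prod, Nat.card_prod, Nat.card_sigma,
    (QF F).card_U, hH, Nat.card_eq_fintype_card (α := F),
    Finset.sum_congr rfl (g := fun w : ↥(Weyl.K (QF F).X.M 3) =>
      Fintype.card F ^ (QF F).X.good.inv w.1) (fun w _ => by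
        rw [(QF F).card_Uw, Nat.card_eq_fintype_card]),
    (QF F).X.good.sum_pow_inv_K (Fintype.card F) (show 3 ≤ 4 by norm_num),
    show chevF4.nroots / 2 = 24 from rfl, ← mul_assoc]
  congr 1
  have e : ∀ k (L : List ℕ), (Weyl.lev Weyl.certF4 k).words.map List.length = L →
      Weyl.Cert.stepPoly Weyl.certF4 k (Fintype.card F) = (L.map (Fintype.card F ^ ·)).sum := by
    intro k L hL
    rw [← hL, List.map_map]
    rfl
  have h := step_lengths
  simp only [List.range_succ, List.range_zero, List.nil_append, List.cons_append, List.map_cons,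
    List.map_nil, List.cons.injEq, and_true] at h
  rw [Finset.prod_range_succ, Finset.prod_range_succ, Finset.prod_range_one]
  change Weyl.Cert.stepPoly Weyl.certF4 0 (Fintype.card F) * Weyl.Cert.stepPoly Weyl.certF4 1
    (Fintype.card F) * Weyl.Cert.stepPoly Weyl.certF4 2 (Fintype.card F) = _
  rw [e 0 _ h.1, e 1 _ h.2.1, e 2 _ h.2.2]
  simp [add_assoc]

theorem parab_le : (parab F).map (chevF4.group F).subtype
    ≤ chevF4.parabolicSubgroup F nodes := by
  rw [Subgroup.map_le_iff_le_comap]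
  refine H27.BN.parabolic_le _ ?_ ?_
  · rw [(QF F).amb.pair_B, (QF F).amb_B]
    intro x hx
    exact Subgroup.mem_sup_left hx
  · rintro _ ⟨_, ⟨i, hi, rfl⟩, rfl⟩
    refine Subgroup.mem_sup_right (Subgroup.subset_closure ⟨i.val, hi, ?_, ?_⟩)
    · exact (QF F).rank_eq.symm ▸ i.isLt
    · show ((((QF F).sys.rep ((QF F).X.M.simple i)) : ↥(chevF4.group F)) : GL chevF4.Idx F).val = _
      rw [(QF F).rep_simple i]
      exact (QF F).K.coe_nU F _ _

variable [CharP F 2]

/-- The primes dividing the Levi subgroup. -/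
theorem dvd_levi {s : ℕ} [hs : Fact s.Prime] (hs2 : s ≠ 2)
    (he : ∃ d, (d = 2 ∨ d = 4 ∨ d = 6) ∧ ((Fintype.card F : ℕ) : ZMod s) ^ d = 1) :
    s ∣ Nat.card (chevF4.leviSubgroup F nodes) := by
  have hS : Chev.Sup (QF F).X.C chevF4 (QF F).X.n := Chev.sup_of_check Chev.supB_F4
  have h1 : s ∣ Nat.card (parab F) := by
    rw [card_parab, ← ZMod.natCast_eq_zero_iff]
    have hq : 1 ≤ Fintype.card F := Fintype.card_pos
    push_cast [Nat.cast_sub hq]
    obtain ⟨d, hd, hq1⟩ := he
    set v : ZMod s := ((Fintype.card F : ℕ) : ZMod s)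
    have hfac : v ^ 24 * (v - 1) ^ 4 * ((1 + v) * (1 + v + v ^ 2) *
        (1 + v + v ^ 2 + v ^ 3 + v ^ 3 + v ^ 4 + v ^ 5 + v ^ 6))
        = v ^ 24 * (v - 1) * ((v ^ 2 - 1) * (v ^ 4 - 1) * (v ^ 6 - 1)) := by ring
    rw [hfac]
    rcases hd with rfl | rfl | rfl <;> simp [hq1]
  have h2 : s ∣ Nat.card (chevF4.parabolicSubgroup F nodes) := by
    refine h1.trans ?_
    rw [Nat.card_congr ((parab F).equivMapOfInjective (chevF4.group F).subtype Subtype.val_injective).toEquiv]
    exact Subgroup.card_dvd_of_le (parab_le F)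
  rw [← (QF F).radical_sup_levi hS] at h2
  set R := chevF4.unipotentRadical F nodes with hR
  set L := chevF4.leviSubgroup F nodes with hL
  have hLN : L ≤ Subgroup.normalizer (R : Set (GL chevF4.Idx F)) :=
    le_trans ((le_sup_right).trans ((QF F).radical_sup_levi hS).le) ((QF F).parabolic_le_normalizer hS)
  have hcoe := Subgroup.coe_mul_of_left_le_normalizer_right L R hLN
  let f : ↥L × ↥R → ↥(R ⊔ L) := fun p =>
    ⟨p.1.1 * p.2.1, mul_mem (Subgroup.mem_sup_right p.1.2) (Subgroup.mem_sup_left p.2.2)⟩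
  have hf : Function.Bijective f := by
    constructor
    · rintro ⟨⟨a, ha⟩, ⟨b, hb⟩⟩ ⟨⟨a', ha'⟩, ⟨b', hb'⟩⟩ e
      have e' : a * b = a' * b' := congrArg Subtype.val e
      have hmem : a'⁻¹ * a ∈ R ⊓ L := by
        refine Subgroup.mem_inf.2 ⟨?_, mul_mem (inv_mem ha') ha⟩
        rw [show a'⁻¹ * a = b' * b⁻¹ by rw [← eq_mul_inv_iff_mul_eq.2 e'.symm |>.symm]; group]
        exact mul_mem hb' (inv_mem hb)
      rw [hR, hL, (QF F).radical_inf_levi hS, Subgroup.mem_bot, inv_mul_eq_one] at hmem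
      subst hmem
      rw [mul_right_inj] at e'
      subst e'
      rfl
    · rintro ⟨g, hg⟩
      have hg' : g ∈ ((L ⊔ R : Subgroup (GL chevF4.Idx F)) : Set (GL chevF4.Idx F)) := by
        rw [sup_comm]; exact hg
      rw [hcoe] at hg'
      obtain ⟨a, ha, b, hb, e⟩ := hg'
      exact ⟨(⟨a, ha⟩, ⟨b, hb⟩), Subtype.ext e⟩
  rw [← Nat.card_congr (Equiv.ofBijective f hf), Nat.card_prod] at h2
  refine (hs.out.dvd_mul.1 h2).resolve_right fun h3 => hs2 ?_
  have h4 : Nat.card R ∣ Fintype.card F ^ 24 := by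
    refine (Subgroup.card_dvd_of_le ((QF F).radical_le_pos hS)).trans (dvd_of_eq ?_)
    have h5 := (QF F).card_U
    rw [(QF F).amb_U, Nat.card_congr (Subgroup.subgroupOfEquivOfLe posUnipotent_le_group).toEquiv,
      Nat.card_eq_fintype_card (α := F)] at h5
    exact h5
  obtain ⟨m, -, hm⟩ := FiniteField.card F 2
  rw [hm, ← pow_mul] at h4
  exact (Nat.prime_dvd_prime_iff_eq hs.out Nat.prime_two).1 (hs.out.dvd_of_dvd_pow (h3.trans h4))

theorem levi_le_group : chevF4.leviSubgroup F nodes ≤ chevF4.group F := by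
  refine sup_le (fun g hg => ?_) ((Subgroup.closure_le _).2 ?_)
  · exact borel_le_group (QF F).ord (Subgroup.mem_sup_right hg)
  · rintro g ⟨r, t, -, hg⟩
    rw [show g = (QF F).K.xU F r t from Units.ext hg]
    exact (QF F).K.xU_mem_group F r t

/-- Scaling the root elements of a root. -/
def Scale (r : ℕ) (g : GL chevF4.Idx F) : Prop :=
  ∃ c : Fˣ, ∀ t : F, g * (QF F).K.xU F r t = (QF F).K.xU F r ((c : F) * t) * g

theorem scale_levi {r : ℕ} (hr : r = 47 ∨ r = 0) {g : GL chevF4.Idx F}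
    (hg : g ∈ chevF4.leviSubgroup F nodes) : Scale F r g := by
  let S : Subgroup (GL chevF4.Idx F) :=
    { carrier := {g | Scale F r g}
      one_mem' := ⟨1, fun t => by simp⟩
      mul_mem' := by
        rintro a b ⟨c, hc⟩ ⟨d, hd⟩
        refine ⟨c * d, fun t => ?_⟩
        rw [mul_assoc, hd, ← mul_assoc, hc, mul_assoc, Units.val_mul, mul_assoc (c : F)]
      inv_mem' := by
        rintro a ⟨c, hc⟩
        refine ⟨c⁻¹, fun t => ?_⟩
        rw [eq_comm, mul_inv_eq_iff_eq_mul, mul_assoc, eq_inv_mul_iff_mul_eq, hc, ← mul_assoc (c : F),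
          Units.mul_inv, one_mul] }
  have hr48 : r < chevF4.nroots := by rcases hr with rfl | rfl <;> decide
  have hle : chevF4.leviSubgroup F nodes ≤ S := by
    refine sup_le ((Subgroup.closure_le _).2 ?_) ((Subgroup.closure_le _).2 ?_)
    · rintro g ⟨p, t, hp, ht, hg⟩
      rw [show g = (QF F).K.hU F p t from Units.ext (hg.trans ((QF F).K.coe_hU F _ _).symm)]
      refine ⟨(Units.mk0 t ht) ^ pairingSum chevF4 p r, fun u => ?_⟩
      exact mul_inv_eq_iff_eq_mul.1 ((QF F).K.hU_conj_xU F hp hr48 (Units.mk0 t ht) u)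
    · rintro g ⟨p, t, ⟨hp, hJ⟩, hg⟩
      rw [show g = (QF F).K.xU F p t from Units.ext hg]
      have hz := hJ 3 (show 3 < chevF4.rank by decide) (fun h => absurd h (lt_irrefl 3))
      have h := List.all_eq_true.1 check_orth p (List.mem_range.2 hp)
      simp only [orthB, hz, beq_self_eq_true, Bool.not_true, Bool.false_or, Bool.and_eq_true,
        bne_iff_ne, List.isEmpty_iff] at h
      obtain ⟨⟨⟨h47, h0⟩, hc47⟩, hc0⟩ := h
      have hne : r ≠ p := by rcases hr with rfl | rfl <;> [exact h47.symm; exact h0.symm]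
      have hnn : r ≠ chevF4.neg p := by
        rw [(QF F).K.neg_eq p hp, show chevF4.nroots = 48 from rfl]
        have : p < 48 := hp
        rcases hr with rfl | rfl <;> omega
      have hw : chevF4.commTerms p r = [] := by
        rcases hr with rfl | rfl <;> [exact hc47; exact hc0]
      refine ⟨1, fun u => ?_⟩
      rw [Units.val_one, one_mul, (QF F).K.xU_comm F hp hr48 hne hnn t u]
      simp [ChevalleyDatum.commWord, hw, Chevalley.Cert.wU_nil]
  exact hle hg

/-- An element of prime order commuting with the root subgroups of the highest root. -/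
theorem exists_centralizing {s : ℕ} [hs : Fact s.Prime] (hs2 : s ≠ 2)
    (he : ∃ d, (d = 2 ∨ d = 4 ∨ d = 6) ∧ ((Fintype.card F : ℕ) : ZMod s) ^ d = 1) :
    ∃ y : GL chevF4.Idx F, y ∈ chevF4.group F ∧ orderOf y = s ∧
      ∀ t : F, Commute y ((QF F).K.xU F 47 t) ∧ Commute y ((QF F).K.xU F 0 t) := by
  classical
  by_cases hs1 : s ∣ Fintype.card F - 1
  · rw [← Fintype.card_units] at hs1
    obtain ⟨c, hc⟩ := exists_prime_orderOf_dvd_card s hs1
    set Q := QF F
    have hp : chevF4.simple 0 < chevF4.nroots := by decide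
    set y := Q.K.hU F (chevF4.simple 0) (c : F) with hy
    have hpow : ∀ k : ℕ, y ^ k = Q.K.hU F (chevF4.simple 0) ((c ^ k : Fˣ) : F) := by
      intro k
      induction k with
      | zero =>
        rw [pow_zero, pow_zero]
        have h := Q.K.hU_mul F hp 1 1
        rw [mul_one] at h
        exact (mul_left_cancel (h.symm.trans (mul_one _).symm)).symm
      | succ k ih => rw [pow_succ, ih, hy, ← Q.K.hU_mul F hp, ← pow_succ]
    have hys : y ^ s = 1 := by
      rw [hpow, ← hc, pow_orderOf_eq_one, ← pow_zero c, ← hpow 0, pow_zero]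
    have hy1 : y ≠ 1 := by
      intro h1
      have h2 := Q.K.hU_conj_xU F hp hp c 1
      rw [← hy, h1, one_mul, inv_one, mul_one, Q.K.pairing_simple (show 0 < chevF4.rank by decide),
        Q.K.cartan_self 0 (by decide), mul_one] at h2
      have h3 := congrArg (fun g => g * Q.K.xU F (chevF4.simple 0) (-1)) h2
      simp only [Q.K.xU_add, add_neg_cancel, Q.K.xU_zero] at h3
      have h4 := add_neg_eq_zero.1 ((Q.K.xU_eq_one_iff F hp _).1 h3.symm)
      have h5 : c ^ (2 : ℕ) = 1 := by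
        refine Units.ext ?_
        rw [← zpow_natCast]
        exact h4
      have h6 := Nat.le_of_dvd (by norm_num) (hc ▸ orderOf_dvd_of_pow_eq_one h5)
      exact hs2 (le_antisymm h6 hs.out.two_le)
    refine ⟨y, Q.K.wU_mem F fun p _ => Q.K.xU_mem_group F p.1 p.2, orderOf_eq_prime hys hy1,
      fun t => ?_⟩
    have key : ∀ r, r < chevF4.nroots → chevF4.cartan 0 r = 0 → Commute y (Q.K.xU F r t) := by
      intro r hr h0
      have h := mul_inv_eq_iff_eq_mul.1 (Q.K.hU_conj_xU F hp hr c t)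
      rw [Q.K.pairing_simple (show 0 < chevF4.rank by decide), h0, zpow_zero, Units.val_one,
        one_mul] at h
      exact h
    exact ⟨key 47 (by decide) (by decide +kernel), key 0 (by decide) (by decide +kernel)⟩
  · obtain ⟨⟨y, hyL⟩, hy⟩ := exists_prime_orderOf_dvd_card' s (dvd_levi F hs2 he)
    rw [Subgroup.orderOf_mk] at hy
    refine ⟨y, levi_le_group F hyL, hy, fun t => ?_⟩
    have key : ∀ r, r = 47 ∨ r = 0 → Commute y ((QF F).K.xU F r t) := by
      intro r hr
      obtain ⟨c, hc⟩ := scale_levi F hr hyL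
      have hr48 : r < chevF4.nroots := by rcases hr with rfl | rfl <;> decide
      have hpow : ∀ (k : ℕ) (u : F), y ^ k * (QF F).K.xU F r u
          = (QF F).K.xU F r (((c ^ k : Fˣ) : F) * u) * y ^ k := by
        intro k
        induction k with
        | zero => intro u; simp
        | succ k ih =>
          intro u
          rw [pow_succ, mul_assoc, hc, ← mul_assoc, ih, mul_assoc, pow_succ, Units.val_mul,
            mul_assoc ((c ^ k : Fˣ) : F)]
      have h1 := hpow s 1
      rw [← hy, pow_orderOf_eq_one, one_mul, mul_one, mul_one] at h1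
      have h2 := congrArg (fun g => g * (QF F).K.xU F r (-1)) h1
      simp only [(QF F).K.xU_add, add_neg_cancel, (QF F).K.xU_zero] at h2
      have h3 := add_neg_eq_zero.1 (((QF F).K.xU_eq_one_iff F hr48 _).1 h2.symm)
      rw [hy] at h3
      have hc1 : c = 1 := by
        rw [← orderOf_eq_one_iff]
        rcases (Nat.dvd_prime hs.out).1 (orderOf_dvd_of_pow_eq_one (Units.ext h3 : c ^ s = 1)) with h | h
        · exact h
        · refine absurd ?_ hs1
          rw [← Fintype.card_units, ← h]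
          exact orderOf_dvd_card
      show y * _ = _
      rw [hc, hc1, Units.val_one, one_mul]
    exact ⟨key 47 (Or.inl rfl), key 0 (Or.inr rfl)⟩

/-- The homomorphism onto the highest root subgroups and a nontrivial image of order `r`. -/
theorem exists_root_element {r : ℕ} [hr : Fact r.Prime] (hr2 : r ≠ 2)
    (he : r ∣ Fintype.card F ^ 2 - 1) {y : GL chevF4.Idx F}
    (hy : ∀ t : F, Commute y ((QF F).K.xU F 47 t) ∧ Commute y ((QF F).K.xU F 0 t)) :
    ∃ g : GL chevF4.Idx F, g ∈ chevF4.group F ∧ orderOf g = r ∧ Commute y g := by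
  classical
  set Q := QF F
  have hneg : chevF4.neg 47 = 0 := by decide +kernel
  have h47 : (47 : ℕ) < chevF4.nroots := by decide
  have hw : ∀ t, wEl (Q.K.xU F 47) (Q.K.xU F 0) t = Q.K.nU F 47 t := fun t => by
    rw [Q.K.nU_eq, hneg]; rfl
  have R : SL2Rels (Q.K.xU F 47) (Q.K.xU F 0) :=
    { x_add := fun t u => Q.K.xU_add F 47 t u
      y_add := fun t u => Q.K.xU_add F 0 t u
      w_conj := fun t u ht => by
        rw [hw, ← hneg]
        exact Q.K.nU_conj_self F 47 h47 (Units.mk0 t ht) u }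
  have hh : ∀ t : F, SL2Rels.hEl (Q.K.xU F 47) (Q.K.xU F 0) t = Q.K.hU F 47 t := fun t => by
    rw [SL2Rels.hEl, hw, hw, Q.K.hU_eq]
  obtain ⟨ψ, hx, hyl, hrange⟩ := Chevalley.SL2Hom.exists_hom R fun t u => by
    rw [hh, hh, hh]
    exact (Q.K.hU_mul F h47 t u).symm
  have hmem : ∀ M, ψ M ∈ chevF4.group F ∧ Commute y (ψ M) := by
    intro M
    have hle : ψ.range ≤ chevF4.group F ⊓ Subgroup.centralizer {y} := by
      rw [hrange, Subgroup.closure_le]
      rintro _ (⟨t, rfl⟩ | ⟨t, rfl⟩)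
      · exact ⟨Q.K.xU_mem_group F 47 t, Subgroup.mem_centralizer_singleton_iff.2 (hy t).1.eq.symm⟩
      · exact ⟨Q.K.xU_mem_group F 0 t, Subgroup.mem_centralizer_singleton_iff.2 (hy t).2.eq.symm⟩
    obtain ⟨h1, h2⟩ := hle ⟨M, rfl⟩
    exact ⟨h1, (Subgroup.mem_centralizer_singleton_iff.1 h2).symm⟩
  obtain ⟨M, hM⟩ := exists_prime_orderOf_dvd_card' (G := Matrix.SpecialLinearGroup (Fin 2) F) r
    (by rw [Linear.card_SL_two]; exact dvd_mul_of_dvd_right he _)
  refine ⟨ψ M, (hmem M).1, ?_, (hmem M).2⟩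
  refine orderOf_eq_prime (by rw [← map_pow, ← hM, pow_orderOf_eq_one, map_one]) fun h1 => ?_
  -- a nontrivial kernel would identify two opposite root elements
  have hbad : ∀ (t : F) (u : F), Q.K.xU F 47 t = Q.K.xU F 0 u → t = 0 := by
    intro t u e
    have h := Q.pos_inf_neg
      (Q.xU_mem_pos h47 (by decide) t)
      (Subgroup.subset_closure ⟨0, u, (Q.ord.isNegRoot_iff _).2 (by decide), by rw [e]; rfl⟩)
    exact (Q.K.xU_eq_one_iff F h47 t).1 h
  set a := (M : Matrix (Fin 2) (Fin 2) F) 0 0 with ha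
  set b := (M : Matrix (Fin 2) (Fin 2) F) 0 1 with hb
  set c := (M : Matrix (Fin 2) (Fin 2) F) 1 0 with hc
  set d := (M : Matrix (Fin 2) (Fin 2) F) 1 1 with hd
  have hMeta : (M : Matrix (Fin 2) (Fin 2) F) = !![a, b; c, d] := Matrix.eta_fin_two _
  have hdet : a * d - b * c = 1 := by rw [← M.2, hMeta, Matrix.det_fin_two_of]
  by_cases hc0 : c = 0
  · rw [hc0, mul_zero, sub_zero] at hdet
    have ha0 : a ≠ 0 := fun h => by rw [h, zero_mul] at hdet; exact zero_ne_one hdet
    have e : M * upMat 1 = upMat (a ^ 2) * M := by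
      refine Matrix.SpecialLinearGroup.ext _ _ fun i j => ?_
      rw [Matrix.SpecialLinearGroup.coe_mul, Matrix.SpecialLinearGroup.coe_mul, upMat_coe,
        upMat_coe, hMeta, hc0]
      fin_cases i <;> fin_cases j <;> simp [Matrix.mul_fin_two] <;>
        linear_combination (-(a : F)) * hdet
    have e2 := congrArg ψ e
    rw [map_mul, map_mul, h1, one_mul, mul_one, hx, hx] at e2
    have e3 := congrArg (fun g => g * Q.K.xU F 47 (-1)) e2
    simp only [Q.K.xU_add, add_neg_cancel, Q.K.xU_zero] at e3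
    have e4 := add_neg_eq_zero.1 ((Q.K.xU_eq_one_iff F h47 _).1 e3.symm)
    have hsum : (a + 1) ^ 2 = 0 := by
      have h2 : (2 : F) = 0 := CharTwo.two_eq_zero
      linear_combination e4 + (a + 1) * h2
    have ha1 : a = 1 := by
      have := eq_zero_of_pow_eq_zero hsum
      rwa [add_eq_zero_iff_eq_neg, CharTwo.neg_eq] at this
    have hd1 : d = 1 := by rwa [ha1, one_mul] at hdet
    have hM2 : M = upMat b := Matrix.SpecialLinearGroup.ext _ _ fun i j => by
      rw [upMat_coe, hMeta, hc0, ha1, hd1]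
    have h4 : M ^ 2 = 1 := by
      rw [hM2, sq, upMat_mul, CharTwo.add_self_eq_zero, upMat_zero]
    have h5 := Nat.le_of_dvd (by norm_num) (hM ▸ orderOf_dvd_of_pow_eq_one h4)
    exact hr2 (le_antisymm h5 hr.out.two_le)
  · set u := -a / c
    set M' := upMat u * M * upMat (-u) with hM'
    have h2 : ψ M' = 1 := by
      rw [hM', map_mul, map_mul, h1, mul_one, ← map_mul, upMat_mul, add_neg_cancel, upMat_zero,
        map_one]
    set x := -(d - u * c) * (-c⁻¹) with hxdef
    have e : M' = wEl upMat lowMat (-c⁻¹) * upMat x := by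
      refine Matrix.SpecialLinearGroup.ext _ _ fun i j => ?_
      rw [hM', Matrix.SpecialLinearGroup.coe_mul, Matrix.SpecialLinearGroup.coe_mul,
        Matrix.SpecialLinearGroup.coe_mul, Chevalley.SL2Hom.wEl_sl2 (neg_ne_zero.2 (inv_ne_zero hc0)),
        upMat_coe, upMat_coe, upMat_coe, hMeta]
      fin_cases i <;> fin_cases j <;> simp [Matrix.mul_fin_two, u, hxdef] <;> field_simp <;>
        first | ring1 | linear_combination -hdet
    rw [e, map_mul, hx, wEl, map_mul, map_mul, hx, hyl,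
      show Q.K.xU F 47 (-c⁻¹) * Q.K.xU F 0 (-(-c⁻¹)⁻¹) * Q.K.xU F 47 (-c⁻¹)
        = wEl (Q.K.xU F 47) (Q.K.xU F 0) (-c⁻¹) from rfl] at h2
    have h3 := R.w_conj (-c⁻¹) 1 (neg_ne_zero.2 (inv_ne_zero hc0))
    rw [mul_eq_one_iff_eq_inv.1 h2, Q.K.xU_inv, Q.K.xU_inv, Q.K.xU_add, Q.K.xU_add,
      show -x + 1 + - -x = 1 by ring] at h3
    exact one_ne_zero (hbad _ _ h3)

end Cfsg.Agent.H75.FFour
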