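import Cfsg.Agent.H75.FFour.Frame
import Cfsg.Agent.S2378

/-!
Two primes with the same order at least three are joined in F4 in characteristic two.
-/
set_option autoImplicit false
set_option maxRecDepth 100000
set_option maxHeartbeats 800000

namespace Cfsg.Agent.H75.FFour

open Cfsg.Lie Cfsg.Agent.H37 Cfsg.Agent.H37.RootSys Cfsg.Agent.Chevalley.Weights Matrix
open Cfsg.Agent.Chevalley.TwTorus
open Cfsg.Agent.Chevalley (cor pairingSum)
open Polynomial (cyclotomic)

variable {F : Type*} [Field F] [Fintype F] [CharP F 2] {r s : ℕ} [hr : Fact r.Prime]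
  [hs : Fact s.Prime]

/-- An element of the twisted torus of the other order. -/
theorem join (hrs : r ≠ s) (hsE : s ∣ Nat.card (Ext F) - 1)
    {y : ↥(chevF4.group F)} (hy : orderOf y = r) {g : GE F} {b : Vec F}
    (hb : g⁻¹ * iota F y * g = T F r b) {w : (QE F).X.M.Group} {h : GE F}
    (hh : h ∈ (QE F).sys.H) (hn : g⁻¹ * phi F g = (QE F).sys.rep w * h)
    (hdet : (s : ℤ) ∣ ((Nat.card F : ℤ) • (1 : Matrix (Fin (QE F).X.n) (Fin (QE F).X.n) ℤ)
      - wmat (QE F) w⁻¹).det) :
    ∃ x : ↥(chevF4.group F), orderOf x = r * s := by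
  obtain ⟨c, hc0, hc⟩ := exists_eigen _ hdet
  have hwc : T F s ((wmat (QE F) w).mulVec ((Nat.card F : ℤ) • c)) = T F s c := by
    rw [T_eq_iff hsE]
    intro j
    have h1 := dvd_mulVec (wmat (QE F) w) hc j
    rw [show (fun i => (wmat (QE F) w⁻¹).mulVec c i - (Nat.card F : ℤ) * c i)
      = (wmat (QE F) w⁻¹).mulVec c - (Nat.card F : ℤ) • c from rfl, mulVec_sub, mulVec_mulVec,
      ← wmat_mul (QE F) (det_ne_zero F), mul_inv_cancel, wmat_one (QE F) (det_ne_zero F),
      one_mulVec] at h1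
    simpa using h1.neg_right
  set z' := g * T F s c * g⁻¹ with hz'
  have hφg : phi F g = g * ((QE F).sys.rep w * h) := by rw [← hn]; group
  have hfix : phi F z' = z' := by
    rw [hz', map_mul, map_mul, map_inv, phi_T, hφg]
    calc g * ((QE F).sys.rep w * h) * T F s ((Nat.card F : ℤ) • c)
          * (g * ((QE F).sys.rep w * h))⁻¹
        = g * ((QE F).sys.rep w * (h * T F s ((Nat.card F : ℤ) • c) * h⁻¹)
          * ((QE F).sys.rep w)⁻¹) * g⁻¹ := by group
      _ = _ := by rw [(RE F).H_comm hh (T_mem F s _), mul_inv_cancel_right, rep_T, hwc]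
  obtain ⟨z, hz⟩ := exists_iota F hfix
  have hTs : T F s c ^ s = 1 := by
    rw [← T_nsmul, T_eq_one_iff hsE]
    exact fun j => ⟨c j, rfl⟩
  have hz1 : z ^ s = 1 := iota_injective F (by
    rw [map_pow, hz, hz', conj_pow, hTs, mul_one, mul_inv_cancel, map_one])
  have hzne : z ≠ 1 := fun h1 => by
    rw [h1, map_one] at hz
    obtain ⟨j, hj⟩ := hc0
    refine hj ((T_eq_one_iff hsE).1 ?_ j)
    rw [show T F s c = g⁻¹ * z' * g by rw [hz']; group, ← hz, mul_one, inv_mul_cancel]
  have hcomm : Commute y z := by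
    refine iota_injective F ?_
    have hy' : iota F y = g * T F r b * g⁻¹ := by rw [← hb]; group
    rw [map_mul, map_mul, hz, hy', hz']
    calc g * T F r b * g⁻¹ * (g * T F s c * g⁻¹) = g * (T F r b * T F s c) * g⁻¹ := by group
      _ = g * (T F s c * T F r b) * g⁻¹ := by rw [(RE F).H_comm (T_mem F r b) (T_mem F s c)]
      _ = _ := by group
  refine ⟨y * z, ?_⟩
  rw [hcomm.orderOf_mul_eq_mul_orderOf_of_coprime (by
    rw [hy, orderOf_eq_prime hz1 hzne]; exact (Nat.coprime_primes hr.out hs.out).2 hrs),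
    hy, orderOf_eq_prime hz1 hzne]

theorem same_big (hrs : r ≠ s) (hrG : r ∣ Nat.card ↥(chevF4.group F)) {k : ℕ}
    (hk8 : k = 8 ∨ k = 12) (hk : orderOf (Nat.card F : ZMod r) = k)
    (hl : orderOf (Nat.card F : ZMod s) = k) :
    ∃ x : ↥(chevF4.group F), orderOf x = r * s := by
  have hmem : k ∈ ({1, 2, 3, 4, 6, 8, 12} : Finset ℕ) := by rcases hk8 with rfl | rfl <;> simp
  have hrE := dvd_ext_of_mem hk hmem
  have hsE := dvd_ext_of_mem hl hmem
  have hr5 := five_le_of_three_le hk (by omega)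
  obtain ⟨y, hy⟩ := exists_prime_orderOf_dvd_card' r hrG
  obtain ⟨g, b, hb, hb0⟩ := exists_frame hrE hr5 hy
  obtain ⟨w, hw, -⟩ := conj_pair_weyl (QE F) (T_mem F r ((Nat.card F : ℤ) • b))
    (T_mem F r ((Nat.card F : ℤ) • b)) (T_mem F r b) (T_mem F r b) (twist hb) (twist hb) (RE F)
  obtain ⟨hM, hreg⟩ := regular_of_big hk hk8 hb0 (eigen_of_rep hrE hw)
  obtain ⟨h, hh, hn⟩ := exists_rep_twist hrE hr5 (fun t ht => Or.inl (hreg t ht)) (twist hb)
    (twist hb) hw hw
  refine join hrs hsE hy hb hh hn ?_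
  rw [det_twist _ (by rcases hk8 with rfl | rfl <;> (show Nat.totient _ = 4) <;> decide) (by omega)
    hM (show 0 < (QE F).X.n from (by norm_num : 0 < 4))]
  exact dvd_cyclotomic_eval hl (by omega)

/-- Two independent commuting elements of order `r`. -/
theorem exists_two (hrG : r ∣ Nat.card ↥(chevF4.group F)) {k : ℕ}
    (hk3 : k = 3 ∨ k = 4 ∨ k = 6) (hk : orderOf (Nat.card F : ZMod r) = k) :
    ∃ y z : ↥(chevF4.group F), orderOf y = r ∧ z ^ r = 1 ∧ Commute y z ∧
      ∀ i j : ℕ, y ^ i * z ^ j = 1 → r ∣ i ∧ r ∣ j := by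
  classical
  have hr5 := five_le_of_three_le hk (by omega)
  obtain ⟨P⟩ : Nonempty (Sylow r ↥(chevF4.group F)) := inferInstance
  obtain ⟨e⟩ := S2378.result (F := F) Nat.card_eq_fintype_card.symm (chevF4, [2, 6, 8, 12]) (by simp) r
    (not_dvd_card (by omega)) (fun h => not_dvd_weyl hr5 (by simpa using h)) hrG P
  rw [hk] at e
  set L := (([2, 6, 8, 12] : List ℕ).filter (fun d => k ∣ d)).length with hL
  have hL2 : L = 2 := by rw [hL]; rcases hk3 with rfl | rfl | rfl <;> rfl
  set a := padicValNat r ((cyclotomic k ℤ).eval (Nat.card F : ℤ)).natAbs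
  have ha : a ≠ 0 := by
    intro ha0
    haveI : Subsingleton (Fin L → Multiplicative (ZMod (r ^ a))) := by
      rw [ha0, pow_zero]; infer_instance
    have hsub : Subsingleton ↥(P : Subgroup ↥(chevF4.group F)) := e.toEquiv.subsingleton
    exact P.ne_bot_of_dvd_card hrG (Subgroup.eq_bot_of_subsingleton _)
  obtain ⟨a', ha'⟩ := Nat.exists_eq_succ_of_ne_zero ha
  set u : Multiplicative (ZMod (r ^ a)) := Multiplicative.ofAdd ((r ^ a' : ℕ) : ZMod (r ^ a))
  have hu : ∀ i : ℕ, u ^ i = 1 ↔ r ∣ i := fun i => by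
    rw [← ofAdd_nsmul, ofAdd_eq_one, nsmul_eq_mul, ← Nat.cast_mul, ZMod.natCast_eq_zero_iff,
      show r ^ a = r * r ^ a' by rw [ha', pow_succ'], mul_comm i, mul_comm r]
    exact Nat.mul_dvd_mul_iff_left (pow_pos hr.out.pos _)
  set f : (Fin L → Multiplicative (ZMod (r ^ a))) →* ↥(chevF4.group F) :=
    (P : Subgroup ↥(chevF4.group F)).subtype.comp e.symm.toMonoidHom
  have hf : Function.Injective f := Subtype.val_injective.comp e.symm.injective
  have hfin : ∀ i, i < 2 → i < L := fun i hi => hL2.symm ▸ hi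
  set p : Fin L → Multiplicative (ZMod (r ^ a)) := Pi.mulSingle ⟨0, hfin 0 (by norm_num)⟩ u
  set p' : Fin L → Multiplicative (ZMod (r ^ a)) := Pi.mulSingle ⟨1, hfin 1 (by norm_num)⟩ u
  have hp : ∀ i j : ℕ, p ^ i * p' ^ j = 1 → r ∣ i ∧ r ∣ j := by
    intro i j h
    have h0 := congrFun h ⟨0, hfin 0 (by norm_num)⟩
    have h1 := congrFun h ⟨1, hfin 1 (by norm_num)⟩
    simp [p, p', Pi.mulSingle_apply, hu] at h0 h1
    exact ⟨h0, h1⟩
  have hpr : p ^ r = 1 ∧ p' ^ r = 1 := by
    constructor <;> funext i <;> simp [p, p', Pi.mulSingle_apply] <;> intro _ <;>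
      exact (hu r).2 dvd_rfl
  have hne : p ≠ 1 := fun h => hr.out.one_lt.ne' (Nat.dvd_one.1 (hp 1 0 (by simp [h])).1)
  refine ⟨f p, f p', ?_, by rw [← map_pow, hpr.2, map_one], (Commute.all p p').map f,
    fun i j h => hp i j (hf (by rw [map_mul, map_pow, map_pow, h, map_one]))⟩
  rw [orderOf_injective f hf]
  exact orderOf_eq_prime hpr.1 hne

theorem same_small (hrs : r ≠ s) (hrG : r ∣ Nat.card ↥(chevF4.group F)) {k : ℕ}
    (hk3 : k = 3 ∨ k = 4 ∨ k = 6) (hk : orderOf (Nat.card F : ZMod r) = k)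
    (hl : orderOf (Nat.card F : ZMod s) = k) :
    ∃ x : ↥(chevF4.group F), orderOf x = r * s := by
  classical
  have hmem : k ∈ ({1, 2, 3, 4, 6, 8, 12} : Finset ℕ) := by rcases hk3 with rfl | rfl | rfl <;> simp
  have hrE := dvd_ext_of_mem hk hmem
  have hsE := dvd_ext_of_mem hl hmem
  have hr5 := five_le_of_three_le hk (by omega)
  obtain ⟨y, z, hy, hz, hyz, hind⟩ := exists_two hrG hk3 hk
  have hindex := not_dvd_index hrE hr5
  have hy' : iota F y ^ r = 1 := by rw [← map_pow, ← hy, pow_orderOf_eq_one, map_one]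
  have hz' : iota F z ^ r = 1 := by rw [← map_pow, hz, map_one]
  obtain ⟨g, hg1, hg2⟩ := conj_into_pair hindex hindex hy' hz' (hyz.map (iota F))
  have hconj : ∀ (a : GE F), a ^ r = 1 → (g⁻¹ * a * g) ^ r = 1 := fun a ha => by
    rw [show g⁻¹ * a * g = g⁻¹ * a * g⁻¹⁻¹ by rw [inv_inv], conj_pow, ha, mul_one, mul_inv_cancel]
  obtain ⟨b, hb⟩ := exists_T hrE hg1 (hconj _ hy')
  obtain ⟨c, hc⟩ := exists_T hrE hg2 (hconj _ hz')
  obtain ⟨w, hwb, hwc⟩ := conj_pair_weyl (QE F) (T_mem F r ((Nat.card F : ℤ) • b))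
    (T_mem F r ((Nat.card F : ℤ) • c)) (T_mem F r b) (T_mem F r c) (twist hb) (twist hc) (RE F)
  set M := wmat (QE F) w⁻¹ with hM
  set φ := Int.castRingHom (ZMod r)
  set q := Nat.card F with hq
  -- the span of the two vectors is a plane of eigenvectors
  let span : ZMod r × ZMod r → Fin (QE F).X.n → ZMod r :=
    fun p j => p.1 * φ (b j) + p.2 * φ (c j)
  have hspan : Function.Injective span := by
    intro p p' hpp
    set i := (p.1 - p'.1).val
    set j := (p.2 - p'.2).val
    have h1 : T F r ((i : ℤ) • b + (j : ℤ) • c) = 1 := by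
      rw [T_eq_one_iff hrE]
      intro m
      refine (ZMod.intCast_zmod_eq_zero_iff_dvd _ r).1 ?_
      have h2 := congrFun hpp m
      simp only [span, φ, eq_intCast] at h2
      simp only [Pi.add_apply, Pi.smul_apply, smul_eq_mul]
      push_cast
      rw [show ((i : ℕ) : ZMod r) = p.1 - p'.1 from ZMod.natCast_rightInverse _,
        show ((j : ℕ) : ZMod r) = p.2 - p'.2 from ZMod.natCast_rightInverse _]
      linear_combination h2
    rw [T_add, T_nsmul, T_nsmul, ← hb, ← hc,
      show g⁻¹ * iota F y * g = g⁻¹ * iota F y * g⁻¹⁻¹ by rw [inv_inv],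
      show g⁻¹ * iota F z * g = g⁻¹ * iota F z * g⁻¹⁻¹ by rw [inv_inv], conj_pow, conj_pow,
      ← map_pow, ← map_pow] at h1
    have h3 : iota F (y ^ i * z ^ j) = 1 := by
      rw [map_mul]
      calc iota F (y ^ i) * iota F (z ^ j)
          = g * (g⁻¹ * iota F (y ^ i) * g⁻¹⁻¹ * (g⁻¹ * iota F (z ^ j) * g⁻¹⁻¹)) * g⁻¹ := by group
        _ = 1 := by rw [h1]; group
    obtain ⟨hi, hj⟩ := hind i j (iota_injective F (h3.trans (map_one _).symm))
    have hi0 := (ZMod.natCast_eq_zero_iff _ r).2 hi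
    have hj0 := (ZMod.natCast_eq_zero_iff _ r).2 hj
    rw [show ((i : ℕ) : ZMod r) = p.1 - p'.1 from ZMod.natCast_rightInverse _, sub_eq_zero] at hi0
    rw [show ((j : ℕ) : ZMod r) = p.2 - p'.2 from ZMod.natCast_rightInverse _, sub_eq_zero] at hj0
    exact Prod.ext hi0 hj0
  let Eig : Set (Fin (QE F).X.n → ZMod r) := {v | (M.map φ) *ᵥ v = (q : ZMod r) • v}
  have hsub : Set.range span ⊆ Eig := by
    rintro _ ⟨p, rfl⟩
    have key : ∀ a : Vec F, (∀ j, (r : ℤ) ∣ M.mulVec a j - (q : ℤ) * a j) →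
        (M.map φ) *ᵥ (fun j => φ (a j)) = (q : ZMod r) • fun j => φ (a j) := by
      intro a ha
      funext j
      rw [Pi.smul_apply, smul_eq_mul, show (M.map φ).mulVec (fun j => φ (a j)) j
        = φ (M.mulVec a j) from (RingHom.map_mulVec φ M a j).symm]
      refine sub_eq_zero.1 ?_
      have h := (ZMod.intCast_zmod_eq_zero_iff_dvd _ r).2 (ha j)
      push_cast at h
      exact h
    show (M.map φ) *ᵥ (p.1 • (fun j => φ (b j)) + p.2 • fun j => φ (c j))
      = (q : ZMod r) • (p.1 • (fun j => φ (b j)) + p.2 • fun j => φ (c j))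
    rw [mulVec_add, mulVec_smul, mulVec_smul, key b (eigen_of_rep hrE hwb),
      key c (eigen_of_rep hrE hwc), smul_add, smul_comm p.1, smul_comm p.2]
  have hMl := wmat_pow_card F w⁻¹
  have hprim : IsPrimitiveRoot (q : ZMod r) k := hk ▸ IsPrimitiveRoot.orderOf _
  have hk0 : 0 < k := by omega
  obtain ⟨j1, hj1, hcard⟩ := H77.Homocyclic.card_eigen_le hMl (not_dvd_weyl hr5) hk0 hprim Eig
    (fun v hv => hv)
  have hcard2 : Nat.card (Set.range span) = r ^ 2 := by
    rw [Nat.card_range_of_injective hspan, Nat.card_prod, Nat.card_zmod, sq]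
  have htot : k.totient = 2 := by rcases hk3 with rfl | rfl | rfl <;> decide
  have hj2 : j1 ≤ 2 := by
    have h := H77.Homocyclic.mul_totient_le hj1
    rw [htot, show (QE F).X.n = 4 from rfl] at h
    omega
  have hle : r ^ 2 ≤ r ^ j1 := hcard2 ▸ (Nat.card_mono (Set.toFinite _) hsub).trans hcard
  have hj : j1 = 2 := le_antisymm hj2 ((Nat.pow_le_pow_iff_right hr.out.one_lt).1 hle)
  subst hj
  have hEq : Set.range span = Eig := Set.Finite.eq_of_subset_of_card_le (Set.toFinite _) hsub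
    (hcard2 ▸ hcard)
  have hchar : M.charpoly = cyclotomic k ℤ ^ 2 :=
    (Polynomial.eq_of_monic_of_dvd_of_natDegree_le ((Polynomial.cyclotomic.monic k ℤ).pow 2)
      M.charpoly_monic hj1 (by
        rw [Matrix.charpoly_natDegree_eq_dim, Fintype.card_fin, Polynomial.natDegree_pow,
          Polynomial.natDegree_cyclotomic, htot]
        exact le_of_eq rfl))
  have hPhi : Polynomial.aeval M (cyclotomic k ℤ) = 0 :=
    H77.Homocyclic.aeval_eq_zero hMl (by norm_num) (k := 2) (dvd_of_eq hchar)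
  obtain ⟨t, ht, htq⟩ : ∃ t : ℤ, (t = -1 ∨ t = 0 ∨ t = 1) ∧
      cyclotomic k ℤ = Polynomial.X ^ 2 - Polynomial.C t * Polynomial.X + 1 := by
    rcases hk3 with rfl | rfl | rfl
    · exact ⟨-1, by simp, by rw [Polynomial.cyclotomic_three]; simp⟩
    · exact ⟨0, by simp, by rw [cyclotomic_four']; simp⟩
    · exact ⟨1, by simp, by rw [cyclotomic_six']; simp⟩
  set q' : ℤ := t - q with hq'
  have hqq : ((q : ℤ) : ZMod r) * ((q' : ℤ) : ZMod r) = 1 := by
    have h := (ZMod.intCast_zmod_eq_zero_iff_dvd _ r).2 (dvd_cyclotomic_eval hk hk0)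
    rw [htq] at h
    simp only [Polynomial.eval_add, Polynomial.eval_sub, Polynomial.eval_pow, Polynomial.eval_X,
      Polynomial.eval_mul, Polynomial.eval_C, Polynomial.eval_one] at h
    rw [hq']
    push_cast at h ⊢
    linear_combination -h
  -- no root vanishes on the plane
  have hreg : ∀ a, a < chevF4.nroots → ¬ (r : ℤ) ∣ pr (QE F).X.n chevF4 a b ∨
      ¬ (r : ℤ) ∣ pr (QE F).X.n chevF4 a c := by
    intro a ha
    by_contra hcon
    simp only [not_or, not_not] at hcon
    have hvan : ∀ v : Vec F, (r : ℤ) ∣ pr (QE F).X.n chevF4 (act (QE F).X.good w a) v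
        - q' * pr (QE F).X.n chevF4 a v := by
      intro v
      set u : Vec F := M.mulVec v - q' • v with hu
      have hMM : M.mulVec (M.mulVec v) - t • M.mulVec v + v = 0 := by
        have h := congrArg (fun A : Matrix (Fin (QE F).X.n) (Fin (QE F).X.n) ℤ => A.mulVec v) hPhi
        rw [htq] at h
        simp only [map_add, map_sub, map_mul, map_pow, Polynomial.aeval_X, Polynomial.aeval_C,
          map_one, add_mulVec, sub_mulVec, one_mulVec, zero_mulVec] at h
        rw [sq, ← mulVec_mulVec, ← Algebra.smul_def, smul_mulVec] at h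
        exact h
      have hmem : (fun j => φ (u j)) ∈ Eig := by
        show (M.map φ) *ᵥ _ = _
        funext j
        rw [show (M.map φ).mulVec (fun j => φ (u j)) j = φ (M.mulVec u j) from
          (RingHom.map_mulVec φ M u j).symm, Pi.smul_apply, smul_eq_mul]
        have h := congrArg φ (congrFun hMM j)
        simp only [hu, mulVec_sub, mulVec_smul, Pi.sub_apply, Pi.add_apply, Pi.smul_apply,
          smul_eq_mul, Pi.zero_apply, map_sub, map_add, map_mul, map_zero] at h ⊢
        simp only [φ, eq_intCast] at h ⊢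
        rw [hq'] at hqq ⊢
        push_cast at hqq ⊢
        linear_combination h + ((v j : ℤ) : ZMod r) * hqq
      rw [← hEq] at hmem
      obtain ⟨p, hp⟩ := hmem
      have hprM : pr (QE F).X.n chevF4 a (M.mulVec v)
          = pr (QE F).X.n chevF4 (act (QE F).X.good w a) v := by
        rw [hM, pr_wmat (QE F) _ ha, inv_inv]
      refine (ZMod.intCast_zmod_eq_zero_iff_dvd _ r).1 ?_
      rw [← hprM, ← pr_smul, ← pr_sub, ← hu]
      have hb0 := (ZMod.intCast_zmod_eq_zero_iff_dvd _ r).2 hcon.1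
      have hc0 := (ZMod.intCast_zmod_eq_zero_iff_dvd _ r).2 hcon.2
      simp only [pr] at hb0 hc0 ⊢
      push_cast at hb0 hc0 ⊢
      rw [Finset.sum_congr rfl (g := fun m => p.1 * ((b m : ZMod r) * (chevF4.cartan m a : ZMod r))
          + p.2 * ((c m : ZMod r) * (chevF4.cartan m a : ZMod r))) (fun m _ => by
            have h1 := congrFun hp m
            simp only [span, φ, eq_intCast] at h1
            rw [← h1]; ring),
        Finset.sum_add_distrib, ← Finset.mul_sum, ← Finset.mul_sum, hb0, hc0, mul_zero, mul_zero,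
        add_zero]
    set β := act (QE F).X.good w a with hβ
    have hβlt : β < 48 := act_lt w ha
    have h1 := hvan (corVec F a)
    have h2 := hvan (corVec F β)
    rw [pr_corVec, pr_corVec, pairing_self ha] at h1
    rw [pr_corVec, pr_corVec, pairing_self hβlt] at h2
    have e1 := (ZMod.intCast_zmod_eq_zero_iff_dvd _ r).2 h1
    have e2 := (ZMod.intCast_zmod_eq_zero_iff_dvd _ r).2 h2
    push_cast at e1 e2
    have h2ne : (2 : ZMod r) ≠ 0 := fun h => by
      have := (ZMod.natCast_eq_zero_iff 2 r).1 (by exact_mod_cast h)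
      have := Nat.le_of_dvd (by norm_num) this
      omega
    have hsq : ∀ e : ZMod r, e * e = 1 → (q' : ZMod r) = e → False := by
      intro e he hqe
      have h3 : (q : ZMod r) ^ 2 = 1 := by
        have h4 : ((q : ℤ) : ZMod r) = e := by
          rw [← mul_one ((q : ℤ) : ZMod r), ← he, ← mul_assoc]
          rw [← hqe, hqq, one_mul]
        rw [Int.cast_natCast] at h4
        rw [h4, sq, he]
      have h5 := Nat.le_of_dvd (by norm_num) (hk ▸ orderOf_dvd_of_pow_eq_one h3)
      omega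
    rcases pair_cases ha hβlt with h | h | ⟨h0, h3⟩
    · rw [← h, pairing_self ha] at e1
      push_cast at e1
      exact hsq 1 (one_mul 1) (mul_right_cancel₀ h2ne (by linear_combination -e1))
    · have hneg := pr_neg (QE F) ha (corVec F a)
      rw [show chevF4.nroots - 1 - a = β from (by
        show 48 - 1 - a = β
        omega), pr_corVec, pr_corVec, pairing_self ha] at hneg
      rw [hneg] at e1
      push_cast at e1
      exact hsq (-1) (by ring) (mul_right_cancel₀ h2ne (by linear_combination -e1))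
    · have h4 : ((pairingSum chevF4 a β * pairingSum chevF4 β a - 4 : ℤ) : ZMod r)
          * ((q : ℤ) : ZMod r) * ((q' : ℤ) : ZMod r) = 0 := by
        push_cast
        linear_combination ((q : ZMod r) * ((pairingSum chevF4 β a : ℤ) : ZMod r) * (q' : ZMod r)) * e1
          - 2 * (q : ZMod r) * (q' : ZMod r) * e2
      rw [mul_assoc, hqq, mul_one, ZMod.intCast_zmod_eq_zero_iff_dvd] at h4
      have h6 := Int.le_of_dvd (by omega) h4.neg_right
      omega
  obtain ⟨h, hh, hn⟩ := exists_rep_twist hrE hr5 hreg (twist hb) (twist hc) hwb hwc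
  refine join hrs hsE hy hb hh hn ?_
  rw [← eval_charpoly_eq, ← hM, hchar, Polynomial.eval_pow]
  exact dvd_pow (dvd_cyclotomic_eval hl hk0) (by norm_num)

end Cfsg.Agent.H75.FFour
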