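import Cfsg.Agent.H75.FFour.Non
import Cfsg.Agent.H75.FFour.Same
import Cfsg.Agent.H75.FFour.Levi

/-!
The prime graph of F4 in characteristic two.
-/
set_option autoImplicit false
set_option maxRecDepth 100000

namespace Cfsg.Agent.H75.FFour

open Cfsg.Lie Cfsg.Agent.H37

variable {F : Type*} [Field F] [Fintype F] [CharP F 2]

theorem pow_eq_one_of_small {s k : ℕ} [Fact s.Prime] (hk : orderOf (Nat.card F : ZMod s) = k)
    (h : k = 1 ∨ k = 2 ∨ k = 3 ∨ k = 4 ∨ k = 6) :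
    ∃ d, (d = 2 ∨ d = 4 ∨ d = 6) ∧ ((Fintype.card F : ℕ) : ZMod s) ^ d = 1 := by
  rw [Nat.card_eq_fintype_card] at hk
  rcases h with rfl | rfl | rfl | rfl | rfl
  · exact ⟨2, Or.inl rfl, orderOf_dvd_iff_pow_eq_one.1 (hk.symm ▸ one_dvd 2)⟩
  · exact ⟨2, Or.inl rfl, orderOf_dvd_iff_pow_eq_one.1 (hk.symm ▸ dvd_rfl)⟩
  · exact ⟨6, Or.inr (Or.inr rfl), orderOf_dvd_iff_pow_eq_one.1 (hk.symm ▸ (by norm_num))⟩
  · exact ⟨4, Or.inr (Or.inl rfl), orderOf_dvd_iff_pow_eq_one.1 (hk.symm ▸ dvd_rfl)⟩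
  · exact ⟨6, Or.inr (Or.inr rfl), orderOf_dvd_iff_pow_eq_one.1 (hk.symm ▸ dvd_rfl)⟩

/-- The prime two and a prime of small order. -/
theorem two_adj {s k : ℕ} [hs : Fact s.Prime] (hs2 : s ≠ 2)
    (hk : orderOf (Nat.card F : ZMod s) = k) (h : k = 1 ∨ k = 2 ∨ k = 3 ∨ k = 4 ∨ k = 6) :
    ∃ x : ↥(chevF4.group F), orderOf x = 2 * s := by
  obtain ⟨y, hyG, hy, hc⟩ := exists_centralizing F hs2 (pow_eq_one_of_small hk h)
  set g := (QF F).K.xU F 47 1
  have hg : orderOf g = 2 := by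
    haveI : Fact (Nat.Prime 2) := ⟨Nat.prime_two⟩
    refine orderOf_eq_prime (by rw [sq, (QF F).K.xU_add, CharTwo.add_self_eq_zero,
      (QF F).K.xU_zero]) fun h => ?_
    exact one_ne_zero (((QF F).K.xU_eq_one_iff F (by decide) _).1 h)
  refine ⟨⟨g * y, mul_mem ((QF F).K.xU_mem_group F 47 1) hyG⟩, ?_⟩
  rw [← Subgroup.orderOf_coe, Subgroup.coe_mk,
    (hc 1).1.symm.orderOf_mul_eq_mul_orderOf_of_coprime (by
      rw [hg, hy]; exact (Nat.coprime_primes Nat.prime_two hs.out).2 hs2.symm), hg, hy]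

/-- A prime dividing `q ^ 2 - 1` and a prime of small order. -/
theorem one_two_adj {r s k : ℕ} [hr : Fact r.Prime] [hs : Fact s.Prime] (hr2 : r ≠ 2) (hs2 : s ≠ 2)
    (hrs : r ≠ s) (hrk : orderOf (Nat.card F : ZMod r) = 1 ∨ orderOf (Nat.card F : ZMod r) = 2)
    (hk : orderOf (Nat.card F : ZMod s) = k) (h : k = 1 ∨ k = 2 ∨ k = 3 ∨ k = 4 ∨ k = 6) :
    ∃ x : ↥(chevF4.group F), orderOf x = r * s := by
  obtain ⟨y, hyG, hy, hc⟩ := exists_centralizing F hs2 (pow_eq_one_of_small hk h)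
  have he : r ∣ Fintype.card F ^ 2 - 1 := by
    rw [← ZMod.natCast_eq_zero_iff, Nat.cast_sub (Nat.one_le_pow _ _ Fintype.card_pos),
      Nat.cast_pow, Nat.cast_one, sub_eq_zero, ← Nat.card_eq_fintype_card]
    exact orderOf_dvd_iff_pow_eq_one.1 (by rcases hrk with h | h <;> rw [h] <;> norm_num)
  obtain ⟨g, hgG, hg, hyg⟩ := exists_root_element F hr2 he hc
  refine ⟨⟨g * y, mul_mem hgG hyG⟩, ?_⟩
  rw [← Subgroup.orderOf_coe, Subgroup.coe_mk,
    hyg.symm.orderOf_mul_eq_mul_orderOf_of_coprime (by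
      rw [hg, hy]; exact (Nat.coprime_primes hr.out hs.out).2 hrs), hg, hy]

/-- The criterion for an odd prime pair, up to symmetry. -/
theorem odd_criterion {r s : ℕ} [hr : Fact r.Prime] [hs : Fact s.Prime] (hr2 : r ≠ 2) (hs2 : s ≠ 2)
    (hrs : r ≠ s) (hrG : r ∣ Nat.card ↥(chevF4.group F)) (hsG : s ∣ Nat.card ↥(chevF4.group F))
    (hle : orderOf (Nat.card F : ZMod r) ≤ orderOf (Nat.card F : ZMod s)) :
    (¬ ∃ x : ↥(chevF4.group F), orderOf x = r * s) ↔
      (orderOf (Nat.card F : ZMod r) < orderOf (Nat.card F : ZMod s) ∧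
        (orderOf (Nat.card F : ZMod s) ∈ ({8, 12} : Finset ℕ) ∨
          (orderOf (Nat.card F : ZMod s) = 6 ∧ orderOf (Nat.card F : ZMod r) ∈ ({3, 4} : Finset ℕ)) ∨
          (orderOf (Nat.card F : ZMod s) = 4 ∧ orderOf (Nat.card F : ZMod r) = 3))) := by
  have hkm := order_mem hr2 hrG
  have hlm := order_mem hs2 hsG
  generalize hk : orderOf (Nat.card F : ZMod r) = k at hkm hle ⊢
  generalize hl : orderOf (Nat.card F : ZMod s) = l at hlm hle ⊢
  simp only [Finset.mem_insert, Finset.mem_singleton] at hkm hlm ⊢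
  constructor
  · intro hno
    by_contra hcond
    apply hno
    rcases Nat.lt_or_ge k 3 with hk3 | hk3
    · exact one_two_adj hr2 hs2 hrs (by omega) hl (by omega)
    · obtain rfl : k = l := by omega
      rcases hkm with h | h | h | h | h | h | h
      · omega
      · omega
      · exact same_small hrs hrG (Or.inl h) hk hl
      · exact same_small hrs hrG (Or.inr (Or.inl h)) hk hl
      · exact same_small hrs hrG (Or.inr (Or.inr h)) hk hl
      · exact same_big hrs hrG (Or.inl h) hk hl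
      · exact same_big hrs hrG (Or.inr h) hk hl
  · rintro ⟨hlt, hcond⟩ ⟨x, hx⟩
    rcases hcond with h8 | ⟨h6, h34⟩ | ⟨h4, h3⟩
    · have h := (big_adj hl h8 hrG hx).2
      omega
    · exact small_nonadj hk hl (by omega) hx
    · exact small_nonadj hk hl (by omega) hx

/-- The criterion for two and an odd prime. -/
theorem two_criterion {s : ℕ} [hs : Fact s.Prime] (hs2 : s ≠ 2)
    (hsG : s ∣ Nat.card ↥(chevF4.group F)) (h2G : 2 ∣ Nat.card ↥(chevF4.group F)) :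
    (¬ ∃ x : ↥(chevF4.group F), orderOf x = 2 * s) ↔
      orderOf (Nat.card F : ZMod s) ∈ ({8, 12} : Finset ℕ) := by
  have hlm := order_mem hs2 hsG
  generalize hl : orderOf (Nat.card F : ZMod s) = l at hlm ⊢
  simp only [Finset.mem_insert, Finset.mem_singleton] at hlm ⊢
  constructor
  · intro hno
    by_contra hcond
    exact hno (two_adj hs2 hl (by omega))
  · rintro h8 ⟨x, hx⟩
    haveI : Fact (Nat.Prime 2) := ⟨Nat.prime_two⟩
    exact (big_adj hl h8 h2G hx).1 rfl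

end Cfsg.Agent.H75.FFour
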