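import Cfsg.Agent.H75.FFour.Frame

/-!
Pairs of primes with no element of product order in F4 in characteristic two.
-/
set_option autoImplicit false
set_option maxRecDepth 100000

namespace Cfsg.Agent.H75.FFour

open Cfsg.Lie Cfsg.Agent.H37 Cfsg.Agent.H37.RootSys Cfsg.Agent.Chevalley.Weights Matrix
open Cfsg.Agent.Chevalley.TwTorus
open Polynomial (cyclotomic)

variable {F : Type*} [Field F] [Fintype F] [CharP F 2] {r s : ℕ} [hr : Fact r.Prime]
  [hs : Fact s.Prime]

/-- A prime of order 8 or 12 is joined only to primes of the same order. -/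
theorem big_adj {l : ℕ} (hl : orderOf (Nat.card F : ZMod s) = l) (hl8 : l = 8 ∨ l = 12)
    (hrG : r ∣ Nat.card ↥(chevF4.group F)) {x : ↥(chevF4.group F)} (hx : orderOf x = r * s) :
    r ≠ 2 ∧ orderOf (Nat.card F : ZMod r) = l := by
  have hlmem : l ∈ ({1, 2, 3, 4, 6, 8, 12} : Finset ℕ) := by rcases hl8 with rfl | rfl <;> simp
  have hsE := dvd_ext_of_mem hl hlmem
  have hs5 := five_le_of_three_le hl (by omega)
  obtain ⟨hy, hz, hyz⟩ := split_order hr.out.pos hs.out.pos hx
  set y := x ^ s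
  set z := x ^ r
  obtain ⟨g, b, hb, hb0⟩ := exists_frame hsE hs5 hz
  have htw := twist hb
  set nn := g⁻¹ * phi F g
  obtain ⟨w, hw, -⟩ := conj_pair_weyl (QE F) (T_mem F s ((Nat.card F : ℤ) • b))
    (T_mem F s ((Nat.card F : ℤ) • b)) (T_mem F s b) (T_mem F s b) htw htw (RE F)
  obtain ⟨-, hreg⟩ := regular_of_big hl hl8 hb0 (eigen_of_rep hsE hw)
  set y' := g⁻¹ * iota F y * g with hy'
  have hy'H : y' ∈ (QE F).sys.H := by
    have hc : T F s b * y' = y' * T F s b := by
      rw [← hb, hy']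
      calc g⁻¹ * iota F z * g * (g⁻¹ * iota F y * g) = g⁻¹ * (iota F z * iota F y) * g := by group
        _ = g⁻¹ * (iota F y * iota F z) * g := by rw [← map_mul, ← map_mul, hyz.eq]
        _ = _ := by group
    exact mem_H_of_pair hsE hs5 (fun t ht => Or.inl (hreg t ht)) hc hc
  have hy'r : y' ^ r = 1 := by
    rw [hy', show g⁻¹ * iota F y * g = g⁻¹ * iota F y * g⁻¹⁻¹ by rw [inv_inv], conj_pow, ← map_pow,
      ← hy, pow_orderOf_eq_one, map_one, mul_one, mul_inv_cancel]
  have hy'1 : y' ≠ 1 := fun h => by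
    have h1 : iota F y = 1 := by
      have h2 : g⁻¹ * iota F y = g⁻¹ := mul_eq_one_iff_eq_inv.1 (hy'.symm.trans h)
      exact mul_eq_left.1 h2
    have h3 : y = 1 := iota_injective F (h1.trans (map_one _).symm)
    rw [h3, orderOf_one] at hy
    exact hr.out.one_lt.ne hy
  have hr2 : r ≠ 2 := by
    intro h2
    have hdvd : orderOf (⟨y', hy'H⟩ : (QE F).sys.H) ∣ Nat.card (QE F).sys.H := orderOf_dvd_natCard _
    rw [Subgroup.orderOf_mk, orderOf_eq_prime hy'r hy'1, h2, card_H] at hdvd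
    have h3 := Nat.prime_two.dvd_of_dvd_pow hdvd
    have h4 : 2 ∣ Nat.card (Ext F) := by
      obtain ⟨m, hm0, hm⟩ := FiniteField.card F 2
      rw [card_ext, Nat.card_eq_fintype_card, hm, ← pow_mul]
      exact dvd_pow_self 2 (by positivity)
    have := one_lt_ext F
    omega
  refine ⟨hr2, ?_⟩
  have hkmem := order_mem hr2 hrG
  have hrE := dvd_ext_of_mem rfl hkmem
  obtain ⟨c, hc⟩ := exists_T hrE hy'H hy'r
  have hc0 : ∃ j, ¬ (r : ℤ) ∣ c j := by
    by_contra h
    push Not at h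
    exact hy'1 (hc.trans ((T_eq_one_iff hrE).2 h))
  have htw' := twist (hy'.symm.trans hc)
  obtain ⟨w', hwb, hwc⟩ := conj_pair_weyl (QE F) (T_mem F s ((Nat.card F : ℤ) • b))
    (T_mem F r ((Nat.card F : ℤ) • c)) (T_mem F s b) (T_mem F r c) htw htw' (RE F)
  obtain ⟨hM, -⟩ := regular_of_big hl hl8 hb0 (eigen_of_rep hsE hwb)
  set φ := Int.castRingHom (ZMod r)
  have heig := eigen_of_rep hrE hwc
  have heig' : ((wmat (QE F) w'⁻¹).map φ).mulVec (fun j => φ (c j))
      = ((Nat.card F : ℤ) : ZMod r) • fun j => φ (c j) := by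
    funext j
    rw [Pi.smul_apply, smul_eq_mul, show ((wmat (QE F) w'⁻¹).map φ).mulVec (fun j => φ (c j)) j
      = φ ((wmat (QE F) w'⁻¹).mulVec c j) from (RingHom.map_mulVec φ _ c j).symm]
    refine sub_eq_zero.1 ?_
    have h := (ZMod.intCast_zmod_eq_zero_iff_dvd _ r).2 (heig j)
    push_cast at h ⊢
    exact h
  have h1 := aeval_mulVec _ heig' ((cyclotomic l ℤ).map φ)
  have h0 : Polynomial.aeval ((wmat (QE F) w'⁻¹).map φ) ((cyclotomic l ℤ).map φ) = 0 := by
    have h2 := Polynomial.aeval_algHom_apply φ.mapMatrix.toIntAlgHom (wmat (QE F) w'⁻¹)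
      (cyclotomic l ℤ)
    rw [hM, map_zero] at h2
    rw [show φ = algebraMap ℤ (ZMod r) from (algebraMap_int_eq _).symm,
      Polynomial.aeval_map_algebraMap]
    exact h2
  rw [h0, zero_mulVec] at h1
  have hroot : (r : ℤ) ∣ (cyclotomic l ℤ).eval (Nat.card F : ℤ) := by
    refine (ZMod.intCast_zmod_eq_zero_iff_dvd _ r).1 ?_
    have h3 := (smul_eq_zero.1 h1.symm).resolve_right (fun h => by
      obtain ⟨j, hj⟩ := hc0
      exact hj ((ZMod.intCast_zmod_eq_zero_iff_dvd _ r).1 (congrFun h j)))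
    rw [Polynomial.eval_map, show ((Nat.card F : ℤ) : ZMod r) = φ (Nat.card F : ℤ) from rfl,
      Polynomial.eval₂_at_apply] at h3
    exact h3
  have hrl : ¬ r ∣ l := by
    intro hd
    rcases hl8 with rfl | rfl
    · exact hr2 ((Nat.prime_dvd_prime_iff_eq hr.out Nat.prime_two).1
        (hr.out.dvd_of_dvd_pow (show r ∣ 2 ^ 3 by simpa using hd)))
    · rcases (Nat.Prime.dvd_mul hr.out).1 (show r ∣ 2 ^ 2 * 3 by simpa using hd) with h | h
      · exact hr2 ((Nat.prime_dvd_prime_iff_eq hr.out Nat.prime_two).1 (hr.out.dvd_of_dvd_pow h))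
      · obtain rfl := (Nat.prime_dvd_prime_iff_eq hr.out Nat.prime_three).1 h
        have hq0 : ((Nat.card F : ℕ) : ZMod 3) ≠ 0 := fun h0 =>
          not_dvd_card hr2 ((ZMod.natCast_eq_zero_iff _ 3).1 h0)
        have h5 := (ZMod.intCast_zmod_eq_zero_iff_dvd _ 3).2 hroot
        rw [eval_cyclotomic_twelve] at h5
        push_cast at h5
        exact twelve_ne_zero _ hq0 h5
  exact orderOf_of_dvd_eval hrl hroot

/-- Two primes of distinct orders among 3, 4, 6 are not joined. -/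
theorem small_nonadj {k l : ℕ} (hk : orderOf (Nat.card F : ZMod r) = k)
    (hl : orderOf (Nat.card F : ZMod s) = l)
    (hkl : (k = 3 ∧ l = 4) ∨ (k = 3 ∧ l = 6) ∨ (k = 4 ∧ l = 6))
    {x : ↥(chevF4.group F)} (hx : orderOf x = r * s) : False := by
  have hrE := dvd_ext_of_mem hk (by rcases hkl with h | h | h <;> simp [h.1])
  have hsE := dvd_ext_of_mem hl (by rcases hkl with h | h | h <;> simp [h.2])
  have hr5 := five_le_of_three_le hk (by omega)
  have hs5 := five_le_of_three_le hl (by omega)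
  obtain ⟨hy, hz, hyz⟩ := split_order hr.out.pos hs.out.pos hx
  have hyr : iota F (x ^ s) ^ r = 1 := by rw [← map_pow, ← hy, pow_orderOf_eq_one, map_one]
  have hzs : iota F (x ^ r) ^ s = 1 := by rw [← map_pow, ← hz, pow_orderOf_eq_one, map_one]
  obtain ⟨g, hg1, hg2⟩ := conj_into_pair (not_dvd_index hrE hr5) (not_dvd_index hsE hs5) hyr hzs
    (hyz.map (iota F))
  have hconj : ∀ (a : GE F) (p : ℕ), a ^ p = 1 → (g⁻¹ * a * g) ^ p = 1 := fun a p ha => by
    rw [show g⁻¹ * a * g = g⁻¹ * a * g⁻¹⁻¹ by rw [inv_inv], conj_pow, ha, mul_one, mul_inv_cancel]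
  obtain ⟨b, hb⟩ := exists_T hrE hg1 (hconj _ r hyr)
  obtain ⟨c, hc⟩ := exists_T hsE hg2 (hconj _ s hzs)
  have hne : ∀ (a : ↥(chevF4.group F)), a ≠ 1 → g⁻¹ * iota F a * g ≠ 1 := fun a ha h => ha (by
    have h2 : g⁻¹ * iota F a = g⁻¹ := mul_eq_one_iff_eq_inv.1 h
    exact iota_injective F ((mul_eq_left.1 h2).trans (map_one _).symm))
  have hb0 : ∃ j, ¬ (r : ℤ) ∣ b j := by
    by_contra h
    push Not at h
    refine hne (x ^ s) ?_ (hb.trans ((T_eq_one_iff hrE).2 h))
    intro h1; rw [h1, orderOf_one] at hy; exact hr.out.one_lt.ne hy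
  have hc0 : ∃ j, ¬ (s : ℤ) ∣ c j := by
    by_contra h
    push Not at h
    refine hne (x ^ r) ?_ (hc.trans ((T_eq_one_iff hsE).2 h))
    intro h1; rw [h1, orderOf_one] at hz; exact hs.out.one_lt.ne hz
  obtain ⟨w, hwb, hwc⟩ := conj_pair_weyl (QE F) (T_mem F r ((Nat.card F : ℤ) • b))
    (T_mem F s ((Nat.card F : ℤ) • c)) (T_mem F r b) (T_mem F s c) (twist hb) (twist hc) (RE F)
  set M := wmat (QE F) w⁻¹
  have hdvd := H77.Homocyclic.charpoly_dvd (wmat_pow_card F w⁻¹)
  have hdk := H77.Homocyclic.cyclotomic_dvd (not_dvd_weyl hr5) hdvd (d := k) (by omega)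
    (z := (Nat.card F : ZMod r)) (hk ▸ IsPrimitiveRoot.orderOf _)
    (by simpa using root_of_eigen M hb0 (eigen_of_rep hrE hwb))
  have hdl := H77.Homocyclic.cyclotomic_dvd (not_dvd_weyl hs5) hdvd (d := l) (by omega)
    (z := (Nat.card F : ZMod s)) (hl ▸ IsPrimitiveRoot.orderOf _)
    (by simpa using root_of_eigen M hc0 (eigen_of_rep hsE hwc))
  have hkl' : k ≠ l := by omega
  obtain ⟨g1, hg1⟩ := hdk
  have hpl : Prime (cyclotomic l ℤ) := (Polynomial.cyclotomic.irreducible (by omega)).prime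
  rcases hpl.dvd_or_dvd (hg1 ▸ hdl) with h | h
  · exact hkl' (Polynomial.cyclotomic_injective (Polynomial.eq_of_monic_of_dvd_of_natDegree_le
      (Polynomial.cyclotomic.monic l ℤ) (Polynomial.cyclotomic.monic k ℤ) h (by
        rw [Polynomial.natDegree_cyclotomic, Polynomial.natDegree_cyclotomic]
        rcases hkl with h | h | h <;> rw [h.1, h.2] <;> decide)))
  · obtain ⟨g2, rfl⟩ := h
    have hm : g2.Monic := (Polynomial.cyclotomic.monic l ℤ).of_mul_monic_left
      ((Polynomial.cyclotomic.monic k ℤ).of_mul_monic_left (hg1 ▸ M.charpoly_monic))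
    have hdeg := congrArg Polynomial.natDegree hg1
    rw [Matrix.charpoly_natDegree_eq_dim, Fintype.card_fin,
      Polynomial.natDegree_mul (Polynomial.cyclotomic.monic k ℤ).ne_zero
        (mul_ne_zero (Polynomial.cyclotomic.monic l ℤ).ne_zero hm.ne_zero),
      Polynomial.natDegree_mul (Polynomial.cyclotomic.monic l ℤ).ne_zero hm.ne_zero,
      Polynomial.natDegree_cyclotomic, Polynomial.natDegree_cyclotomic] at hdeg
    have h4 : (QE F).X.n = 4 := rfl
    rw [h4] at hdeg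
    have htk : k.totient = 2 ∧ l.totient = 2 := by
      rcases hkl with h | h | h <;> rw [h.1, h.2] <;> decide
    have hg2 : g2 = 1 := Polynomial.eq_one_of_monic_natDegree_zero hm (by omega)
    have hev := congrArg (Polynomial.eval 3) hg1
    rw [eval_charpoly_eq, hg2, mul_one, Polynomial.eval_mul] at hev
    obtain ⟨h1, h2, h3⟩ := det_three_ne F w⁻¹
    rcases hkl with ⟨rfl, rfl⟩ | ⟨rfl, rfl⟩ | ⟨rfl, rfl⟩
    · exact h1 (by rw [hev, Polynomial.cyclotomic_three, eval_cyclotomic_four]; simp)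
    · exact h2 (by rw [hev, Polynomial.cyclotomic_three, eval_cyclotomic_six]; simp)
    · exact h3 (by rw [hev, eval_cyclotomic_four, eval_cyclotomic_six]; simp)

end Cfsg.Agent.H75.FFour
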