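import Cfsg.Agent.Chevalley.TwTorus.Cases
import Cfsg.Agent.H77.Homocyclic.Poly

/-!
Eigenvectors modulo primes of integer matrices; the orders of the field size modulo the prime
divisors of the order of F4.
-/
set_option autoImplicit false

namespace Cfsg.Agent.H75.FFour

open Polynomial Matrix
open Cfsg.Agent.Chevalley.TwTorus

variable {n : ℕ} {r : ℕ} [hr : Fact r.Prime]

/-- An eigenvector modulo `r` gives a root of the characteristic polynomial. -/
theorem root_of_eigen (M : Matrix (Fin n) (Fin n) ℤ) {b : Fin n → ℤ} (hb : ∃ j, ¬ (r : ℤ) ∣ b j)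
    {q : ℤ} (hMb : ∀ j, (r : ℤ) ∣ M.mulVec b j - q * b j) :
    (M.charpoly.map (Int.castRingHom (ZMod r))).IsRoot (q : ZMod r) := by
  set φ := Int.castRingHom (ZMod r)
  set b' : Fin n → ZMod r := fun j => φ (b j)
  have hbne : b' ≠ 0 := fun h => by
    obtain ⟨j, hj⟩ := hb
    exact hj ((ZMod.intCast_zmod_eq_zero_iff_dvd _ r).1 (congrFun h j))
  have heig : (M.map φ).mulVec b' = (q : ZMod r) • b' := by
    funext j
    rw [Pi.smul_apply, smul_eq_mul, show (M.map φ).mulVec (fun j => φ (b j)) j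
      = φ (M.mulVec b j) from (RingHom.map_mulVec φ M b j).symm]
    refine sub_eq_zero.1 ?_
    have h := (ZMod.intCast_zmod_eq_zero_iff_dvd _ r).2 (hMb j)
    push_cast at h
    exact h
  have h1 := aeval_mulVec (M.map φ) heig (M.map φ).charpoly
  rw [aeval_self_charpoly, zero_mulVec] at h1
  rw [← charpoly_map]
  exact (smul_eq_zero.1 h1.symm).resolve_right hbne

/-- A singular twist has an eigenvector. -/
theorem exists_eigen (M : Matrix (Fin n) (Fin n) ℤ) {q : ℤ}
    (h : (r : ℤ) ∣ (q • (1 : Matrix (Fin n) (Fin n) ℤ) - M).det) :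
    ∃ c : Fin n → ℤ, (∃ j, ¬ (r : ℤ) ∣ c j) ∧ ∀ j, (r : ℤ) ∣ M.mulVec c j - q * c j := by
  set φ := Int.castRingHom (ZMod r)
  have hdet : ((q • (1 : Matrix (Fin n) (Fin n) ℤ) - M).map φ).det = 0 := by
    rw [← RingHom.mapMatrix_apply, ← RingHom.map_det]
    exact (ZMod.intCast_zmod_eq_zero_iff_dvd _ r).2 h
  obtain ⟨v, hv0, hv⟩ := exists_mulVec_eq_zero_iff.2 hdet
  set c : Fin n → ℤ := fun j => ((v j).val : ℤ)
  have hc : ∀ j, φ (c j) = v j := fun j => by simp [φ, c]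
  refine ⟨c, ?_, fun j => ?_⟩
  · obtain ⟨j, hj⟩ := Function.ne_iff.1 hv0
    exact ⟨j, fun hd => hj (by rw [← hc j]; exact (ZMod.intCast_zmod_eq_zero_iff_dvd _ r).2 hd)⟩
  · refine (ZMod.intCast_zmod_eq_zero_iff_dvd _ r).1 ?_
    have h1 := RingHom.map_mulVec φ (q • (1 : Matrix (Fin n) (Fin n) ℤ) - M) c j
    rw [show (φ ∘ c) = v from funext hc, hv, Pi.zero_apply, sub_mulVec, smul_mulVec, one_mulVec,
      Pi.sub_apply, Pi.smul_apply, smul_eq_mul] at h1
    show φ _ = 0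
    rw [← neg_sub, map_neg, h1, neg_zero]

omit hr in
theorem eval_charpoly_eq (M : Matrix (Fin n) (Fin n) ℤ) (q : ℤ) :
    M.charpoly.eval q = (q • (1 : Matrix (Fin n) (Fin n) ℤ) - M).det := by
  rw [eval_charpoly]
  congr 1
  rw [Matrix.scalar_apply, ← Matrix.diagonal_one, ← Matrix.diagonal_smul]
  congr 2
  funext i
  simp

/-- A primitive root of unity modulo `r`. -/
theorem dvd_cyclotomic_eval {q k : ℕ} (hk : orderOf (q : ZMod r) = k) (hk0 : 0 < k) :
    (r : ℤ) ∣ (cyclotomic k ℤ).eval (q : ℤ) := by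
  have h := (hk ▸ IsPrimitiveRoot.orderOf (q : ZMod r) :
    IsPrimitiveRoot (q : ZMod r) k).isRoot_cyclotomic hk0
  rw [IsRoot.def, ← map_cyclotomic_int k (ZMod r), eval_map,
    show (q : ZMod r) = Int.castRingHom (ZMod r) (q : ℤ) by simp,
    eval₂_at_apply] at h
  exact (ZMod.intCast_zmod_eq_zero_iff_dvd _ r).1 h

/-- A root of a cyclotomic polynomial modulo a prime not dividing the index. -/
theorem orderOf_of_dvd_eval {q k : ℕ} (hrk : ¬ r ∣ k)
    (h : (r : ℤ) ∣ (cyclotomic k ℤ).eval (q : ℤ)) : orderOf (q : ZMod r) = k := by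
  haveI : NeZero (k : ZMod r) := ⟨fun h0 => hrk ((ZMod.natCast_eq_zero_iff _ r).1 h0)⟩
  have hroot : IsRoot (cyclotomic k (ZMod r)) (q : ZMod r) := by
    rw [IsRoot.def, ← map_cyclotomic_int k (ZMod r), eval_map,
      show (q : ZMod r) = Int.castRingHom (ZMod r) (q : ℤ) by simp, eval₂_at_apply]
    exact (ZMod.intCast_zmod_eq_zero_iff_dvd _ r).2 h
  exact (isRoot_cyclotomic_iff.1 hroot).eq_orderOf.symm

/-- The possible orders of the field size. -/
theorem order_cases {q : ℕ} (h : r ∣ q ^ 24 * ([2, 6, 8, 12].map fun e => q ^ e - 1).prod)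
    (hrq : ¬ r ∣ q) :
    orderOf (q : ZMod r) ∈ ({1, 2, 3, 4, 6, 8, 12} : Finset ℕ) := by
  have hq0 : 0 < q := Nat.pos_of_ne_zero (by rintro rfl; exact hrq (dvd_zero r))
  have key : ∀ d, r ∣ q ^ d - 1 → orderOf (q : ZMod r) ∣ d := fun d hd => by
    refine orderOf_dvd_of_pow_eq_one ?_
    have h1 := (ZMod.natCast_eq_zero_iff _ r).2 hd
    rw [Nat.cast_sub (Nat.one_le_pow _ _ hq0), Nat.cast_pow, Nat.cast_one, sub_eq_zero] at h1
    exact h1
  rcases (Nat.Prime.dvd_mul hr.out).1 h with h1 | h1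
  · exact absurd (hr.out.dvd_of_dvd_pow h1) hrq
  obtain ⟨a, ha, hra⟩ := (Prime.dvd_prod_iff hr.out.prime).1 h1
  simp only [List.map_cons, List.map_nil, List.mem_cons, List.not_mem_nil, or_false] at ha
  have hd : orderOf (q : ZMod r) ∈ Nat.divisors 12 ∨ orderOf (q : ZMod r) ∈ Nat.divisors 8 := by
    rcases ha with rfl | rfl | rfl | rfl
    · exact Or.inr (Nat.mem_divisors.2 ⟨(key 2 hra).trans (by norm_num), by norm_num⟩)
    · exact Or.inl (Nat.mem_divisors.2 ⟨(key 6 hra).trans (by norm_num), by norm_num⟩)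
    · exact Or.inr (Nat.mem_divisors.2 ⟨key 8 hra, by norm_num⟩)
    · exact Or.inl (Nat.mem_divisors.2 ⟨key 12 hra, by norm_num⟩)
  rcases hd with hd | hd <;> revert hd <;> generalize orderOf (q : ZMod r) = e <;> intro hd
  · rw [show Nat.divisors 12 = {1, 2, 3, 4, 6, 12} by decide] at hd
    simp only [Finset.mem_insert, Finset.mem_singleton] at hd ⊢
    omega
  · rw [show Nat.divisors 8 = {1, 2, 4, 8} by decide] at hd
    simp only [Finset.mem_insert, Finset.mem_singleton] at hd ⊢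
    omega

/-- The order is below the prime. -/
theorem order_lt {q k : ℕ} (hk : orderOf (q : ZMod r) = k) (hk0 : 0 < k) : k ∣ r - 1 ∧ k < r := by
  have hq : (q : ZMod r) ≠ 0 := fun h => by
    rw [h, orderOf_zero] at hk; omega
  have h := hk ▸ ZMod.orderOf_dvd_card_sub_one hq
  refine ⟨h, ?_⟩
  have h2 := hr.out.two_le
  have := Nat.le_of_dvd (by omega) h
  omega

theorem cyclotomic_four' : cyclotomic 4 ℤ = X ^ 2 + 1 := by
  have h := cyclotomic_prime_pow_eq_geom_sum (R := ℤ) (n := 1) Nat.prime_two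
  rw [show (4 : ℕ) = 2 ^ (1 + 1) by norm_num, h]
  simp [Finset.sum_range_succ]
  ring

theorem cyclotomic_six' : cyclotomic 6 ℤ = X ^ 2 - X + 1 := by
  have h := cyclotomic_expand_eq_cyclotomic_mul (R := ℤ) (p := 3) (n := 2) Nat.prime_three
    (by norm_num)
  rw [cyclotomic_two, map_add, expand_X, map_one, show (2 * 3 : ℕ) = 6 from rfl] at h
  refine mul_right_cancel₀ (show (X + 1 : ℤ[X]) ≠ 0 from fun h0 => ?_) (h.symm.trans (by ring))
  simpa using congrArg (Polynomial.eval 0) h0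

theorem eval_cyclotomic_four (x : ℤ) : (cyclotomic 4 ℤ).eval x = x ^ 2 + 1 := by
  rw [cyclotomic_four']; simp

theorem twelve_ne_zero : ∀ v : ZMod 3, v ≠ 0 → v ^ 4 - v ^ 2 + 1 ≠ 0 := by decide

theorem eval_cyclotomic_six (x : ℤ) : (cyclotomic 6 ℤ).eval x = x ^ 2 - x + 1 := by
  rw [cyclotomic_six']; simp

theorem eval_cyclotomic_twelve (x : ℤ) : (cyclotomic 12 ℤ).eval x = x ^ 4 - x ^ 2 + 1 := by
  have h := congrArg (Polynomial.eval x) (cyclotomic_expand_eq_cyclotomic (R := ℤ)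
    (p := 2) (n := 6) Nat.prime_two (by norm_num))
  rw [expand_eval, eval_cyclotomic_six] at h
  rw [show (12 : ℕ) = 6 * 2 by norm_num, ← h]
  ring

end Cfsg.Agent.H75.FFour
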