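import Cfsg.Agent.Chevalley.TwTorus.Regular

/-!
Pairs of torus elements not annihilated by a common root: trivial common stabiliser in the Weyl
group, and common centraliser equal to the torus.
-/
set_option autoImplicit false
set_option linter.unusedSectionVars false

namespace Cfsg.Agent.H75.FFour

open Cfsg.Lie Cfsg.Agent.H37 Cfsg.Agent.H37.RootSys Cfsg.Agent.Chevalley.Weights Matrix
open Cfsg.Agent.Chevalley.TwTorus

variable {D : ChevalleyDatum} {F : Type*} [Field F] [Finite F] (Q : H37.Chev.Data D F)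

/-- A Weyl group element fixing a vector on which no root vanishes is trivial. -/
theorem eq_one_of_fixed (hcard : Nat.card (D.diagonalSubgroup F) = (Nat.card F - 1) ^ D.rank)
    (hA : (cartanT Q).det ≠ 0) {v : Fin Q.X.n → ℤ}
    (hne : ∀ s, s < D.nroots → pr Q.X.n D s v ≠ 0) {w : Q.X.M.Group}
    (hfix : (wmat Q w).mulVec v = v) : w = 1 := by
  haveI := Q.X.good.finite
  set R := richOf Q hcard
  have hfix' : (wmat Q w⁻¹).mulVec v = v := by
    conv_lhs => rw [← hfix]
    rw [mulVec_mulVec, ← wmat_mul Q hA, inv_mul_cancel, wmat_one Q hA, one_mulVec]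
  let f : ℕ → ℤ := fun s => pr Q.X.n D s v
  have hfw : ∀ s, s < D.nroots → f (act Q.X.good w s) = f s := fun s hs => by
    show pr Q.X.n D _ v = pr Q.X.n D s v
    conv_rhs => rw [← hfix', pr_wmat Q _ hs, inv_inv]
  let P : Q.X.M.Group → Finset ℕ := fun y => (posSet D).filter fun s => f (act Q.X.good y s) < 0
  obtain ⟨y, hy⟩ := Finite.exists_min fun y => (P y).card
  have hev := Q.X.good.even
  have hsimple : ∀ i : Fin Q.X.n, 0 < f (act Q.X.good y (D.simple i)) := by
    intro i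
    rcases lt_trichotomy (f (act Q.X.good y (D.simple i))) 0 with h | h | h
    · exfalso
      have hmemP : D.simple i ∈ P y :=
        Finset.mem_filter.2 ⟨mem_posSet.2 ⟨simple_lt Q.X.good i, simple_pos Q.X.good i⟩, h⟩
      have hle : (P (y * Q.X.M.simple i)).card ≤ ((P y).erase (D.simple i)).card := by
        refine Finset.card_le_card_of_injOn (Q.X.C.sigma i) (fun s hs => ?_) (fun s hs s' hs' e => ?_)
        · obtain ⟨hs1, hs2⟩ := Finset.mem_filter.1 hs
          obtain ⟨hs3, hs4⟩ := mem_posSet.1 hs1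
          rw [act_mul _ _ hs3, act_simple i hs3] at hs2
          have hne' : s ≠ D.simple i := fun e => by
            rw [e, sigma_simple Q.X.good i, act_neg y (simple_lt Q.X.good i)] at hs2
            have h2 := pr_neg Q (act_lt (hC := Q.X.good) y (simple_lt Q.X.good i)) v
            simp only [f] at hs2 h
            omega
          have hp := sigma_pos Q.X.good i hs3 hs4 hne'
          refine Finset.mem_erase.2 ⟨fun e => ?_,
            Finset.mem_filter.2 ⟨mem_posSet.2 ⟨sigma_lt Q.X.good i hs3, hp⟩, hs2⟩⟩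
          have e' := congrArg (Q.X.C.sigma i) e
          rw [sigma_sigma Q.X.good i hs3] at e'
          rw [e'] at hs4
          have := sigma_simple_neg Q.X.good i
          omega
        · have hs1 := (mem_posSet.1 (Finset.mem_filter.1 hs).1).1
          have hs2 := (mem_posSet.1 (Finset.mem_filter.1 hs').1).1
          rw [← sigma_sigma Q.X.good i hs1, e, sigma_sigma Q.X.good i hs2]
      rw [Finset.card_erase_of_mem hmemP] at hle
      have := Finset.card_pos.2 ⟨_, hmemP⟩
      have h3 : (P y).card ≤ (P (y * Q.X.M.simple i)).card := hy _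
      omega
    · exact absurd h (hne _ (act_lt y (simple_lt Q.X.good i)))
    · exact h
  have hpos : ∀ s, s < D.nroots → D.nroots / 2 ≤ s → 0 < f (act Q.X.good y s) := by
    intro s
    induction s using Nat.strong_induction_on with
    | _ s ih =>
      intro hs hp
      rcases R.climb s hs hp with ⟨i, rfl⟩ | ⟨i, hlt, hp', hcf⟩
      · exact hsimple i
      · have hs' := sigma_lt Q.X.good i hs
        have hT := R.T_up i _ hs' (by rw [sigma_sigma Q.X.good i hs]; exact hcf)
        rw [sigma_sigma Q.X.good i hs] at hT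
        have h2 := Q.sys.T_hom y _ _ _ hs' (simple_lt Q.X.good i) hs hT
        rw [← act_eq _ hs', ← act_eq _ (simple_lt Q.X.good i), ← act_eq _ hs] at h2
        obtain ⟨a, c, ha, hc, e⟩ := R.T_cf _ _ _ (act_lt y hs') (act_lt y (simple_lt Q.X.good i))
          (act_lt y hs) h2
        have hsum : f (act Q.X.good y s) = a * f (act Q.X.good y (Q.X.C.sigma i s))
            + c * f (act Q.X.good y (D.simple i)) := by
          simp only [f]
          rw [pr_cartan Q (act_lt y hs), pr_cartan Q (act_lt y hs'),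
            pr_cartan Q (act_lt y (simple_lt Q.X.good i)), Finset.mul_sum, Finset.mul_sum,
            ← Finset.sum_add_distrib]
          refine Finset.sum_congr rfl fun m _ => ?_
          have em : Q.K.cf (act Q.X.good y s) m = a * Q.K.cf (act Q.X.good y (Q.X.C.sigma i s)) m
            + c * Q.K.cf (act Q.X.good y (D.simple i)) m := e m
          rw [em]; ring
        rw [hsum]
        have h1 := ih _ hlt hs' hp'
        have h3 := hsimple i
        positivity
  set z := y⁻¹ * w * y with hz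
  have hflip : Sys.flip Q.X.good z = ∅ := by
    refine Finset.eq_empty_of_forall_notMem fun s hs => ?_
    obtain ⟨h1, h2, h3⟩ := Sys.mem_flip.1 hs
    rw [← act_eq _ h1] at h3
    have hg : f (act Q.X.good y (act Q.X.good z s)) = f (act Q.X.good y s) := by
      rw [← act_mul _ _ h1, show y * z = w * y by rw [hz]; group, act_mul _ _ h1,
        hfw _ (act_lt y h1)]
    have hzlt := act_lt (hC := Q.X.good) z h1
    have h4 := hpos (D.nroots - 1 - act Q.X.good z s) (by omega) (by omega)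
    rw [act_neg y hzlt] at h4
    have h5 := pr_neg Q (act_lt (hC := Q.X.good) y hzlt) v
    have h6 := hpos s h1 h2
    simp only [f] at h4 hg h6
    omega
  have hz1 : z = 1 := Q.X.good.eq_one_of_inv_eq_zero (by rw [← Sys.card_flip, hflip, Finset.card_empty])
  have hwy : w = y * z * y⁻¹ := by rw [hz]; group
  rw [hwy, hz1, mul_one, mul_inv_cancel]

theorem pr_add (n : ℕ) (s : ℕ) (a b : Fin n → ℤ) : pr n D s (a + b) = pr n D s a + pr n D s b := by
  simp only [pr, Pi.add_apply, add_mul, Finset.sum_add_distrib]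

theorem pr_zsmul (n : ℕ) (s : ℕ) (c : ℤ) (a : Fin n → ℤ) : pr n D s (c • a) = c * pr n D s a := by
  simp only [pr, Pi.smul_apply, smul_eq_mul, Finset.mul_sum, mul_assoc]

/-- A pair of vectors with no common root modulo a prime is moved by every nontrivial Weyl group
element. -/
theorem stab_pair (hcard : Nat.card (D.diagonalSubgroup F) = (Nat.card F - 1) ^ D.rank)
    (hA : (cartanT Q).det ≠ 0) {r : ℕ} [hr : Fact r.Prime]
    (hrW : ¬ r ∣ Nat.card Q.X.M.Group) {b c : Fin Q.X.n → ℤ}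
    (hreg : ∀ s, s < D.nroots → ¬ (r : ℤ) ∣ pr Q.X.n D s b ∨ ¬ (r : ℤ) ∣ pr Q.X.n D s c)
    {w : Q.X.M.Group} (hwb : ∀ j, (r : ℤ) ∣ (wmat Q w).mulVec b j - b j)
    (hwc : ∀ j, (r : ℤ) ∣ (wmat Q w).mulVec c j - c j) : w = 1 := by
  classical
  haveI := Q.X.good.finite
  haveI : Fintype Q.X.M.Group := Fintype.ofFinite _
  let φ := Int.castRingHom (ZMod r)
  let cast' : (Fin Q.X.n → ℤ) → Fin Q.X.n → ZMod r := fun a j => φ (a j)
  let fixes : Q.X.M.Group → (Fin Q.X.n → ℤ) → Prop := fun u a =>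
    ((wmat Q u).map φ).mulVec (cast' a) = cast' a
  have hmem : ∀ u a, (∀ j, (r : ℤ) ∣ (wmat Q u).mulVec a j - a j) → fixes u a := fun u a h => by
    funext j
    rw [show ((wmat Q u).map φ).mulVec (cast' a) j = φ ((wmat Q u).mulVec a j) from
      (RingHom.map_mulVec φ _ a j).symm]
    exact sub_eq_zero.1 (by
      show φ _ - φ (a j) = 0
      rw [← map_sub]; exact (ZMod.intCast_zmod_eq_zero_iff_dvd _ r).2 (h j))
  have hone : ∀ a, fixes 1 a := fun a => by
    show ((wmat Q 1).map φ).mulVec _ = _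
    rw [wmat_one Q hA, show (1 : Matrix (Fin Q.X.n) (Fin Q.X.n) ℤ).map φ = 1 from
      map_one φ.mapMatrix, one_mulVec]
  have hmul : ∀ u v a, fixes u a → fixes v a → fixes (u * v) a := fun u v a hu hv => by
    show ((wmat Q (u * v)).map φ).mulVec _ = _
    rw [wmat_mul Q hA, show (wmat Q u * wmat Q v).map φ = (wmat Q u).map φ * (wmat Q v).map φ from
      map_mul φ.mapMatrix _ _, ← mulVec_mulVec, hv, hu]
  let St : Submonoid Q.X.M.Group :=
    { carrier := {u | fixes u b ∧ fixes u c}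
      one_mem' := ⟨hone b, hone c⟩
      mul_mem' := fun {u v} hu hv => ⟨hmul u v b hu.1 hv.1, hmul u v c hu.2 hv.2⟩ }
  let Sg : Subgroup Q.X.M.Group :=
    { St with
      inv_mem' := fun {u} hu => by
        have h1 : u⁻¹ ∈ Submonoid.powers u :=
          (isOfFinOrder_of_finite u).mem_powers_iff_mem_zpowers.2
            (Subgroup.inv_mem _ (Subgroup.mem_zpowers u))
        exact (Submonoid.powers_le.2 hu : Submonoid.powers u ≤ St) h1 }
  have hwS : w ∈ Sg := ⟨hmem w b hwb, hmem w c hwc⟩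
  let avg : (Fin Q.X.n → ℤ) → Fin Q.X.n → ℤ := fun a =>
    ∑ u : Sg, (wmat Q (u : Q.X.M.Group)).mulVec a
  have hfix : ∀ a, ∀ u ∈ Sg, (wmat Q u).mulVec (avg a) = avg a := fun a u hu => by
    simp only [avg]
    rw [Matrix.mulVec_sum]
    refine Fintype.sum_equiv (Equiv.mulLeft (⟨u, hu⟩ : Sg)) _ _ fun x => ?_
    rw [mulVec_mulVec, ← wmat_mul Q hA]
    rfl
  have hpr : ∀ a, (∀ u : Sg, fixes u a) → ∀ s, ¬ (r : ℤ) ∣ pr Q.X.n D s a →
      pr Q.X.n D s (avg a) ≠ 0 := by
    intro a ha s hs h0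
    have hcast : ∀ a : Fin Q.X.n → ℤ, ((pr Q.X.n D s a : ℤ) : ZMod r)
        = ∑ m, (a m : ZMod r) * (D.cartan m s : ZMod r) := fun a => by
      simp [pr]
    have hvb : ∀ j, ((avg a j : ℤ) : ZMod r) = (Nat.card Sg : ZMod r) * (a j : ZMod r) := by
      intro j
      simp only [avg, Finset.sum_apply, Int.cast_sum]
      rw [Finset.sum_congr rfl (g := fun _ => (a j : ZMod r))
        (fun u _ => ?_), Finset.sum_const, Finset.card_univ, nsmul_eq_mul, Nat.card_eq_fintype_card]
      rw [show (((wmat Q (u : Q.X.M.Group)).mulVec a j : ℤ) : ZMod r)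
        = φ ((wmat Q (u : Q.X.M.Group)).mulVec a j) from rfl, RingHom.map_mulVec φ _ a j]
      exact congrFun (ha u) j
    have h1 := hcast (avg a)
    rw [h0, Int.cast_zero] at h1
    have h2 : (Nat.card Sg : ZMod r) * ((pr Q.X.n D s a : ℤ) : ZMod r) = 0 := by
      rw [hcast a, h1, Finset.mul_sum]
      exact Finset.sum_congr rfl fun m _ => by rw [hvb, mul_assoc]
    rcases mul_eq_zero.1 h2 with h3 | h3
    · exact hrW (((CharP.cast_eq_zero_iff (ZMod r) r _).1 h3).trans Sg.card_subgroup_dvd_card)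
    · exact hs ((ZMod.intCast_zmod_eq_zero_iff_dvd _ r).1 h3)
  set N : ℤ := 1 + ∑ s ∈ Finset.range D.nroots, |pr Q.X.n D s (avg b)| with hN
  refine eq_one_of_fixed Q hcard hA (v := avg b + N • avg c) (fun s hs h0 => ?_) ?_
  · rw [pr_add, pr_zsmul] at h0
    have hle : |pr Q.X.n D s (avg b)| < N := by
      have := Finset.single_le_sum (fun t _ => abs_nonneg (pr Q.X.n D t (avg b)))
        (Finset.mem_range.2 hs)
      omega
    by_cases hc0 : pr Q.X.n D s (avg c) = 0
    · rw [hc0, mul_zero, add_zero] at h0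
      rcases hreg s hs with h | h
      · exact hpr b (fun u => u.2.1) s h h0
      · exact hpr c (fun u => u.2.2) s h hc0
    · have h1 : N ≤ |N * pr Q.X.n D s (avg c)| := by
        rw [abs_mul, abs_of_nonneg (by positivity : (0 : ℤ) ≤ N)]
        exact le_mul_of_one_le_right (by positivity) (Int.one_le_abs hc0)
      rw [show N * pr Q.X.n D s (avg c) = -pr Q.X.n D s (avg b) by linarith, abs_neg] at h1
      omega
  · rw [mulVec_add, mulVec_smul, hfix b w hwS, hfix c w hwS]

/-- Root elements are moved by one of two torus elements. -/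
def Moves (s t : ↥(D.group F)) : Prop :=
  ∀ r, r < D.nroots → (∀ u t' : F, s * Q.sys.x r u * s⁻¹ = Q.sys.x r t' → t' = u → u = 0) ∨
    (∀ u t' : F, t * Q.sys.x r u * t⁻¹ = Q.sys.x r t' → t' = u → u = 0)

/-- Two torus elements moving every root element fix no common nontrivial unipotent element. -/
theorem comm_U_pair {s t : ↥(D.group F)} (hreg : Moves Q s t) (hs : s ∈ Q.sys.H) (ht : t ∈ Q.sys.H)
    {u : ↥(D.group F)} (hu : u ∈ Q.sys.U) (hcs : s * u * s⁻¹ = u) (hct : t * u * t⁻¹ = u) :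
    u = 1 := by
  have hS : Q.sys.toUnip.Closed (posSet D) := Q.sys.P_eq ▸ Q.sys.toUnip.closed_P
  suffices ∀ m k, (posSet D).sup id < k + m → ∀ g ∈ XS Q.sys.x {r | r ∈ posSet D ∧ k ≤ r},
      s * g * s⁻¹ = g → t * g * t⁻¹ = g → g = 1 by
    exact this ((posSet D).sup id + 1) 0 (by omega) u
      (XS_mono (S' := {r | r ∈ posSet D ∧ 0 ≤ r}) (fun r hr => ⟨hr, Nat.zero_le r⟩) hu) hcs hct
  intro m
  induction m with
  | zero =>
    intro k hk g hg _ _
    have : {r | r ∈ posSet D ∧ k ≤ r} = ∅ := by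
      refine Set.eq_empty_iff_forall_notMem.2 fun r hr => ?_
      have := Finset.le_sup (f := id) hr.1
      simp only [id_eq] at this
      have := hr.2
      omega
    rwa [this, XS_empty, Subgroup.mem_bot] at hg
  | succ m ih =>
    intro k hk g hg h1 h2
    by_cases hkS : k ∈ posSet D
    · obtain ⟨a, p, hp, rfl⟩ := Q.sys.toUnip.exists_head hS hkS hg
      have hklt := (mem_posSet.1 hkS).1
      have key : ∀ τ ∈ Q.sys.H, τ * (Q.sys.x k a * p) * τ⁻¹ = Q.sys.x k a * p →
          (∀ u t' : F, τ * Q.sys.x k u * τ⁻¹ = Q.sys.x k t' → t' = u → u = 0) → a = 0 := by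
        intro τ hτ hfix hmv
        obtain ⟨a', ea⟩ := Q.sys.h_conj τ hτ k hklt a
        have hp' : τ * p * τ⁻¹ ∈ XS Q.sys.x {r | r ∈ posSet D ∧ k < r} := conj_mem_XS (fun r hr c => by
          obtain ⟨c', ec⟩ := Q.sys.h_conj τ hτ r (mem_posSet.1 hr.1).1 c
          rw [ec]; exact x_mem_XS hr c') hp
        have e : Q.sys.x k a' * (τ * p * τ⁻¹) = Q.sys.x k a * p := by
          rw [← ea]
          calc _ = τ * (Q.sys.x k a * p) * τ⁻¹ := by group
            _ = _ := hfix
        exact hmv a a' ea (Q.sys.toUnip.head_unique hS hkS hp' hp e).1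
      obtain rfl : a = 0 := (hreg k hklt).elim (key s hs h1) (key t ht h2)
      rw [Q.sys.x_zero' hklt, one_mul] at h1 h2 ⊢
      exact ih (k + 1) (by omega) p hp h1 h2
    · rw [Unip.tail_of_not_mem hkS] at hg
      exact ih (k + 1) (by omega) g hg h1 h2

/-- The twist between two torus elements: one Weyl group element serves both. -/
theorem conj_pair_weyl {s t s' t' g : ↥(D.group F)} (hs : s ∈ Q.sys.H) (ht : t ∈ Q.sys.H)
    (hs' : s' ∈ Q.sys.H) (ht' : t' ∈ Q.sys.H) (hg : s' * g = g * s) (hg' : t' * g = g * t)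
    (R : Rich Q.sys) :
    ∃ w, Q.sys.rep w * s * (Q.sys.rep w)⁻¹ = s' ∧ Q.sys.rep w * t * (Q.sys.rep w)⁻¹ = t' := by
  obtain ⟨u, hu, h, hh, w, v, hv, e⟩ := Q.amb.exists_eq g
  change u ∈ Q.sys.U at hu
  change h ∈ Q.sys.H at hh
  change v ∈ Q.sys.Uw w at hv
  have e0 : g = u * h * Q.sys.rep w * v := e
  subst e0
  clear e
  refine ⟨w, ?_, ?_⟩
  · exact key hs hs' hu hh hv hg R
  · exact key ht ht' hu hh hv hg' R
where
  key {s t u h v : ↥(D.group F)} {w : Q.X.M.Group} (hs : s ∈ Q.sys.H) (ht : t ∈ Q.sys.H)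
      (hu : u ∈ Q.sys.U) (hh : h ∈ Q.sys.H) (hv : v ∈ Q.sys.Uw w)
      (hg : t * (u * h * Q.sys.rep w * v) = u * h * Q.sys.rep w * v * s) (R : Rich Q.sys) :
      Q.sys.rep w * s * (Q.sys.rep w)⁻¹ = t := by
    have heq : (t * u * t⁻¹) * (t * h * (Q.sys.rep w * s * (Q.sys.rep w)⁻¹)⁻¹) * Q.sys.rep w
        * (s * v * s⁻¹) = u * h * Q.sys.rep w * v := by
      calc _ = t * (u * h * Q.sys.rep w * v) * s⁻¹ := by group
        _ = _ := by rw [hg, mul_inv_cancel_right]
    have hv'' : s * v * s⁻¹ ∈ Q.sys.Uw w := conj_mem_XS (fun r hr c => by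
        obtain ⟨c', ec⟩ := Q.sys.h_conj _ hs r (Sys.mem_flip.1 hr).1 c
        rw [ec]; exact x_mem_XS (S := (↑(Sys.flip Q.X.good w) : Set ℕ)) hr c') hv
    obtain ⟨-, -, e2, -⟩ := Q.amb.unique (w := w) (w' := w) (Q.sys.H_conj_U ht hu) hu
      (mul_mem (mul_mem ht hh) (inv_mem (Q.sys.rep_conj_H w hs))) hh hv'' hv heq
    rw [R.H_comm ht hh, mul_assoc] at e2
    exact (mul_inv_eq_one.1 (mul_eq_left.1 e2)).symm

/-- The common centraliser of two torus elements is the torus. -/
theorem mem_H_of_comm {s t g : ↥(D.group F)} (hs : s ∈ Q.sys.H) (ht : t ∈ Q.sys.H)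
    (hreg : Moves Q s t)
    (hstab : ∀ w, Q.sys.rep w * s * (Q.sys.rep w)⁻¹ = s →
      Q.sys.rep w * t * (Q.sys.rep w)⁻¹ = t → w = 1)
    (hgs : s * g = g * s) (hgt : t * g = g * t) (R : Rich Q.sys) : g ∈ Q.sys.H := by
  obtain ⟨u, hu, h, hh, w, v, hv, e⟩ := Q.amb.exists_eq g
  change u ∈ Q.sys.U at hu
  change h ∈ Q.sys.H at hh
  change v ∈ Q.sys.Uw w at hv
  have e0 : g = u * h * Q.sys.rep w * v := e
  subst e0
  clear e
  have key : ∀ τ ∈ Q.sys.H, τ * (u * h * Q.sys.rep w * v) = u * h * Q.sys.rep w * v * τ →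
      τ * u * τ⁻¹ = u ∧ Q.sys.rep w * τ * (Q.sys.rep w)⁻¹ = τ ∧ τ * v * τ⁻¹ = v := by
    intro τ hτ hc
    have heq : (τ * u * τ⁻¹) * (τ * h * (Q.sys.rep w * τ * (Q.sys.rep w)⁻¹)⁻¹) * Q.sys.rep w
        * (τ * v * τ⁻¹) = u * h * Q.sys.rep w * v := by
      calc _ = τ * (u * h * Q.sys.rep w * v) * τ⁻¹ := by group
        _ = _ := by rw [hc, mul_inv_cancel_right]
    have hv'' : τ * v * τ⁻¹ ∈ Q.sys.Uw w := conj_mem_XS (fun r hr c => by
        obtain ⟨c', ec⟩ := Q.sys.h_conj _ hτ r (Sys.mem_flip.1 hr).1 c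
        rw [ec]; exact x_mem_XS (S := (↑(Sys.flip Q.X.good w) : Set ℕ)) hr c') hv
    obtain ⟨-, e1, e2, e3⟩ := Q.amb.unique (w := w) (w' := w) (Q.sys.H_conj_U hτ hu) hu
      (mul_mem (mul_mem hτ hh) (inv_mem (Q.sys.rep_conj_H w hτ))) hh hv'' hv heq
    rw [R.H_comm hτ hh, mul_assoc] at e2
    exact ⟨e1, (mul_inv_eq_one.1 (mul_eq_left.1 e2)).symm, e3⟩
  obtain ⟨a1, a2, a3⟩ := key s hs hgs
  obtain ⟨b1, b2, b3⟩ := key t ht hgt
  obtain rfl : u = 1 := comm_U_pair Q hreg hs ht hu a1 b1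
  obtain rfl : v = 1 := comm_U_pair Q hreg hs ht (Q.sys.Uw_le w hv) a3 b3
  obtain rfl : w = 1 := hstab w a2 b2
  rw [Sys.rep_one, mul_one, mul_one, one_mul]
  exact hh

end Cfsg.Agent.H75.FFour
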