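import Cfsg.Agent.Chevalley.TwTorus.Cases
import Cfsg.Agent.H75.FFour.Regular

/-!
F4 over a finite field of characteristic two inside F4 over the extension of degree 24: the torus
elements of prime order, the field automorphism, conjugation into the torus.
-/
set_option autoImplicit false
set_option maxRecDepth 100000
set_option linter.unusedSectionVars false

namespace Cfsg.Agent.H75.FFour

open Cfsg.Lie Cfsg.Agent.H37 Cfsg.Agent.H37.RootSys Cfsg.Agent.Chevalley.Weights Matrix
open Cfsg.Agent.Chevalley.TwTorus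

variable (F : Type*) [Field F] [Fintype F] [CharP F 2]

/-- The extension of degree 24. -/
abbrev Ext : Type _ := FiniteField.Extension F 2 24

/-- The group over the extension. -/
abbrev GE : Type _ := ↥(chevF4.group (Ext F))

/-- The data over the extension. -/
noncomputable abbrev QE : H37.Chev.Data chevF4 (Ext F) := H37.Chev.dataF4 (Ext F)

theorem diag_ext : Nat.card (chevF4.diagonalSubgroup (Ext F))
    = (Nat.card (Ext F) - 1) ^ chevF4.rank := by
  have h := H37.Chev.diag_F4 (Ext F)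
  rw [one_mul] at h
  exact h

/-- The rank of F4. -/
abbrev Vec : Type := Fin (QE F).X.n → ℤ

/-- The extended structure over the extension. -/
noncomputable abbrev RE := richOf (QE F) (diag_ext F)

theorem det_ne_zero : (cartanT (QE F)).det ≠ 0 := fun h => by
  have h1 := natAbs_cartanT (QE F) cartanF4
    (fun i j => of_decide_eq_true ((show ∀ i j : Fin 4,
      decide (cartanF4 i j = chevF4.cartan i.val (chevF4.simple j.val)) = true by
        decide +kernel) i j)) (natAbs_det_of_cert kerCertF4)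
  rw [h] at h1
  exact absurd h1 (by simp)

theorem natAbs_det : (cartanT (QE F)).det.natAbs = 1 :=
  natAbs_cartanT (QE F) cartanF4
    (fun i j => of_decide_eq_true ((show ∀ i j : Fin 4,
      decide (cartanF4 i j = chevF4.cartan i.val (chevF4.simple j.val)) = true by
        decide +kernel) i j)) (natAbs_det_of_cert kerCertF4)

theorem card_weyl : Nat.card (QE F).X.M.Group = 1152 := H37.Weyl.cardF4

theorem card_ext : Nat.card (Ext F) = Nat.card F ^ 24 := FiniteField.natCard_extension F 2 24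

theorem one_lt_ext : 1 < Nat.card (Ext F) := Finite.one_lt_card

/-- A generator of the multiplicative group. -/
noncomputable def omega : (Ext F)ˣ := (IsCyclic.exists_generator (α := (Ext F)ˣ)).choose

theorem orderOf_omega : orderOf (omega F) = Nat.card (Ext F) - 1 := by
  rw [omega, orderOf_eq_card_of_forall_mem_zpowers (IsCyclic.exists_generator (α := (Ext F)ˣ)).choose_spec,
    Nat.card_units]

/-- A root of unity of order `r`. -/
noncomputable def zeta (r : ℕ) : (Ext F)ˣ := omega F ^ ((Nat.card (Ext F) - 1) / r)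

/-- The element of the torus of exponent `r` with coordinates `b`. -/
noncomputable def T (r : ℕ) (b : Vec F) : GE F := (RE F).tor (powTuple (zeta F r) b)

/-- The field automorphism. -/
noncomputable def phi : MulAut (GE F) := fieldG (QE F).K (frobE F 2 24)

/-- Extension of scalars. -/
noncomputable def iota : ↥(chevF4.group F) →* GE F := mapG (QE F).K (algebraMap F (Ext F))

theorem iota_injective : Function.Injective (iota F) := mapG_injective _ _

theorem phi_iota (y : ↥(chevF4.group F)) : phi F (iota F y) = iota F y :=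
  (range_mapG (QE F) (diag_ext F) _).1 ⟨y, rfl⟩

theorem exists_iota {g : GE F} (h : phi F g = g) : ∃ y, iota F y = g :=
  (range_mapG (QE F) (diag_ext F) g).2 h

theorem T_mem (r : ℕ) (b : Vec F) : T F r b ∈ (QE F).sys.H := (RE F).tor_mem _

theorem T_add (r : ℕ) (a b : Vec F) : T F r (a + b) = T F r a * T F r b := by
  show (RE F).tor _ = (RE F).tor _ * (RE F).tor _
  rw [← map_mul]; congr 1; funext j; exact _root_.zpow_add _ (a j) (b j)

theorem T_zero (r : ℕ) : T F r 0 = 1 := by
  show (RE F).tor _ = 1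
  rw [show powTuple (n := (QE F).X.n) (zeta F r) 0 = 1 from funext fun j => zpow_zero _, map_one]

theorem T_nsmul (r : ℕ) (k : ℕ) (a : Vec F) : T F r ((k : ℤ) • a) = T F r a ^ k := by
  show (RE F).tor _ = (RE F).tor _ ^ k
  rw [← map_pow]; congr 1; funext j
  simp only [powTuple, Pi.pow_apply, Pi.smul_apply, smul_eq_mul]
  rw [← zpow_natCast (zeta F r ^ a j), ← _root_.zpow_mul, mul_comm]

theorem phi_T (r : ℕ) (b : Vec F) : phi F (T F r b) = T F r ((Nat.card F : ℤ) • b) := by
  rw [T_nsmul]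
  refine Subtype.ext (Units.ext ?_)
  ext i j
  rw [SubmonoidClass.coe_pow, Units.val_pow_eq_pow_val]
  show frobE F 2 24 ((((torG (QE F) (powTuple (zeta F r) b) : GE F) : GL chevF4.Idx (Ext F)) :
      Matrix chevF4.Idx chevF4.Idx (Ext F)) i j)
    = ((((torG (QE F) (powTuple (zeta F r) b) : GE F) : GL chevF4.Idx (Ext F)) :
      Matrix chevF4.Idx chevF4.Idx (Ext F)) ^ Nat.card F) i j
  rw [coe_torG]
  show frobE F 2 24 (Matrix.diagonal _ i j) = (Matrix.diagonal _ ^ Nat.card F) i j
  rw [Matrix.diagonal_pow]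
  by_cases hij : i = j
  · subst hij
    rw [Matrix.diagonal_apply_eq, Matrix.diagonal_apply_eq, frobE_apply, Pi.pow_apply]
  · simp [Matrix.diagonal_apply_ne _ hij]

theorem rep_T (r : ℕ) (w : (QE F).X.M.Group) (b : Vec F) :
    (QE F).sys.rep w * T F r b * ((QE F).sys.rep w)⁻¹ = T F r ((wmat (QE F) w).mulVec b) :=
  rep_conj_tor (QE F) w _ b

variable {F} {r : ℕ}

theorem zeta_zpow (hr0 : 0 < r) (hr : r ∣ Nat.card (Ext F) - 1) (k : ℤ) :
    zeta F r ^ k = 1 ↔ (r : ℤ) ∣ k := by
  obtain ⟨m, hm⟩ := hr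
  have hm0 : 0 < m := by
    rcases Nat.eq_zero_or_pos m with rfl | h
    · have := one_lt_ext F; omega
    · exact h
  have ho : orderOf (zeta F r) = r := by
    rw [zeta, hm, Nat.mul_div_cancel_left _ hr0, orderOf_pow, orderOf_omega, hm,
      Nat.gcd_eq_right (dvd_mul_left m r), Nat.mul_div_cancel _ hm0]
  rw [← orderOf_dvd_iff_zpow_eq_one, ho]

variable [hrp : Fact r.Prime]

theorem T_eq_iff (hr : r ∣ Nat.card (Ext F) - 1) {a b : Vec F} :
    T F r a = T F r b ↔ ∀ j, (r : ℤ) ∣ a j - b j := by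
  have key : ∀ j, zeta F r ^ a j = zeta F r ^ b j ↔ (r : ℤ) ∣ a j - b j := fun j => by
    rw [← zeta_zpow hrp.out.pos hr, _root_.zpow_sub, mul_inv_eq_one]
  constructor
  · intro h j; exact (key j).1 (congrFun ((RE F).tor_inj h) j)
  · intro h; exact congrArg (RE F).tor (funext fun j => (key j).2 (h j))

theorem T_eq_one_iff (hr : r ∣ Nat.card (Ext F) - 1) {a : Vec F} :
    T F r a = 1 ↔ ∀ j, (r : ℤ) ∣ a j := by
  rw [← T_zero F r, T_eq_iff hr]; simp

theorem exists_T (hr : r ∣ Nat.card (Ext F) - 1) {h : GE F} (hh : h ∈ (QE F).sys.H)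
    (hpow : h ^ r = 1) : ∃ b, h = T F r b := by
  obtain ⟨v, rfl⟩ := (RE F).exists_tor hh
  obtain ⟨m, hm⟩ := hr
  have hω := (IsCyclic.exists_generator (α := (Ext F)ˣ)).choose_spec
  have hv : ∀ j, ∃ k : ℤ, v j = zeta F r ^ k := fun j => by
    obtain ⟨a, ha⟩ := Subgroup.mem_zpowers_iff.1 (hω (v j))
    change omega F ^ a = v j at ha
    have h1 : v ^ r = 1 := (RE F).tor_inj (by rw [map_pow, map_one]; exact hpow)
    have h2 : omega F ^ (a * r) = 1 := by
      rw [_root_.zpow_mul, ha, zpow_natCast]; exact congrFun h1 j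
    rw [← orderOf_dvd_iff_zpow_eq_one, orderOf_omega, hm, Nat.cast_mul, mul_comm a] at h2
    obtain ⟨k, rfl⟩ := Int.dvd_of_mul_dvd_mul_left (by exact_mod_cast hrp.out.ne_zero) h2
    exact ⟨k, by rw [← ha, _root_.zpow_mul, zpow_natCast, zeta, hm, Nat.mul_div_cancel_left _ hrp.out.pos]⟩
  choose b hb using hv
  exact ⟨b, congrArg (RE F).tor (funext hb)⟩

/-- Roots not vanishing on `b` are moved by the torus element. -/
theorem T_moves (hr : r ∣ Nat.card (Ext F) - 1) {b : Vec F} {s : ℕ} (hs : s < chevF4.nroots)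
    (hb : ¬ (r : ℤ) ∣ pr (QE F).X.n chevF4 s b) (u t' : Ext F)
    (h1 : T F r b * (QE F).sys.x s u * (T F r b)⁻¹ = (QE F).sys.x s t') (h2 : t' = u) : u = 0 := by
  rw [h2, T, tor_conj_x (QE F) _ b hs] at h1
  have h3 : (QE F).K.xU (Ext F) s (((zeta F r ^ pr (QE F).X.n chevF4 s b : (Ext F)ˣ) : Ext F) * u + -u)
      = 1 := by
    rw [← (QE F).K.xU_add, show (QE F).K.xU (Ext F) s (((zeta F r ^ pr (QE F).X.n chevF4 s b :
        (Ext F)ˣ) : Ext F) * u) = (QE F).K.xU (Ext F) s u from
      congrArg Subtype.val h1, (QE F).K.xU_add, add_neg_cancel, (QE F).K.xU_zero]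
  have h4 := ((QE F).K.xU_eq_one_iff (Ext F) hs _).1 h3
  by_contra hu
  refine hb ((zeta_zpow hrp.out.pos hr _).1 (Units.ext (mul_right_cancel₀ hu ?_)))
  rw [Units.val_one, one_mul]
  exact add_neg_eq_zero.1 h4

/-- Divisibility of the multiplicative group of the extension. -/
theorem dvd_ext (he : orderOf ((Nat.card F : ℕ) : ZMod r) ∣ 24) : r ∣ Nat.card (Ext F) - 1 := by
  rw [card_ext]
  have h : ((Nat.card F ^ 24 : ℕ) : ZMod r) = (1 : ℕ) := by
    rw [Nat.cast_pow, Nat.cast_one]
    exact orderOf_dvd_iff_pow_eq_one.1 he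
  exact (Nat.modEq_iff_dvd' (Nat.one_le_pow _ _ Nat.card_pos)).1
    ((ZMod.natCast_eq_natCast_iff _ _ _).1 h).symm

variable (F)

theorem card_H : Nat.card (QE F).sys.H = (Nat.card (Ext F) - 1) ^ 4 := by
  refine (?_ : Nat.card (QE F).sys.H = Nat.card (chevF4.diagonalSubgroup (Ext F))).trans (diag_ext F)
  exact Nat.card_congr (Subgroup.subgroupOfEquivOfLe (by
    rw [(QE F).K.diagonalSubgroup_eq]
    rintro _ ⟨v, rfl⟩
    have := (torG (QE F) fun j => v ⟨j.val, (QE F).rank_eq.symm ▸ j.isLt⟩).2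
    exact this)).toEquiv

variable {F}

/-- The index of the torus is prime to `r`. -/
theorem not_dvd_index (hr : r ∣ Nat.card (Ext F) - 1) (hr5 : 5 ≤ r) :
    ¬ r ∣ (QE F).sys.H.index := by
  have hcard := (QE F).card_group (degs := [2, 6, 8, 12]) H37.Weyl.degsF4 rfl (d := 1)
    (by rw [one_mul]; exact diag_ext F)
  have hpos := one_lt_ext F
  rw [one_mul, ← prod_geom (Nat.card (Ext F)) (by omega) [2, 6, 8, 12]] at hcard
  have h1 := (QE F).sys.H.index_mul_card
  rw [card_H, show Nat.card (GE F) = _ from hcard] at h1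
  have h2 : (QE F).sys.H.index = Nat.card (Ext F) ^ (chevF4.nroots / 2) *
      ([2, 6, 8, 12].map fun e => ∑ i ∈ Finset.range e, Nat.card (Ext F) ^ i).prod := by
    refine Nat.eq_of_mul_eq_mul_right (pow_pos (show 0 < Nat.card (Ext F) - 1 by omega) 4) ?_
    rw [h1, show ([2, 6, 8, 12] : List ℕ).length = 4 from rfl]
    ring
  intro h
  rw [h2] at h
  rcases (Nat.Prime.dvd_mul hrp.out).1 h with h3 | h3
  · have h4 : r ∣ Nat.card (Ext F) := hrp.out.dvd_of_dvd_pow h3
    have h5 := Nat.dvd_sub h4 hr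
    rw [show Nat.card (Ext F) - (Nat.card (Ext F) - 1) = 1 by omega] at h5
    exact hrp.out.one_lt.ne' (Nat.dvd_one.1 h5)
  · have h4 := geom_prod_cast (r := r) (Q := Nat.card (Ext F)) (by
      rw [show Nat.card (Ext F) = (Nat.card (Ext F) - 1) + 1 by omega, Nat.cast_add,
        (ZMod.natCast_eq_zero_iff _ r).2 hr, Nat.cast_one, zero_add]) [2, 6, 8, 12]
    rw [(ZMod.natCast_eq_zero_iff _ r).2 h3] at h4
    have h5 : r ∣ 2 ^ 7 * 3 ^ 2 := by
      simpa using (ZMod.natCast_eq_zero_iff _ r).1 h4.symm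
    rcases (Nat.Prime.dvd_mul hrp.out).1 h5 with h | h
    · have := Nat.le_of_dvd (by norm_num) (hrp.out.dvd_of_dvd_pow h); omega
    · have := Nat.le_of_dvd (by norm_num) (hrp.out.dvd_of_dvd_pow h); omega

/-- An element of exponent `r` is conjugate into a subgroup of index prime to `r`. -/
theorem conj_into {G : Type*} [Group G] [Finite G] {H : Subgroup G} (hindex : ¬ r ∣ H.index) {z : G}
    (hz : z ^ r = 1) : ∃ g, g⁻¹ * z * g ∈ H := by
  by_cases h1 : z = 1
  · exact ⟨1, by simp [h1]⟩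
  have hP : IsPGroup r (Subgroup.zpowers z) :=
    IsPGroup.of_card (n := 1) (by rw [Nat.card_zpowers, orderOf_eq_prime hz h1, pow_one])
  have hmod := hP.card_modEq_card_fixedPoints (G ⧸ H)
  have hne : Nat.card (MulAction.fixedPoints (Subgroup.zpowers z) (G ⧸ H)) ≠ 0 := by
    intro h0
    rw [h0] at hmod
    exact hindex (Nat.modEq_zero_iff_dvd.1 hmod)
  obtain ⟨⟨c, hc'⟩⟩ := (Nat.card_ne_zero.1 hne).1
  induction c using QuotientGroup.induction_on with
  | _ g =>
    refine ⟨g, ?_⟩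
    have h1 := hc' ⟨z, Subgroup.mem_zpowers z⟩
    have h2 := QuotientGroup.eq.1 h1
    have h3 := inv_mem h2
    simpa [mul_assoc] using h3

/-- Two commuting elements of prime exponents are simultaneously conjugate into the torus. -/
theorem conj_into_pair {s : ℕ} [Fact s.Prime] (hr : ¬ r ∣ (QE F).sys.H.index)
    (hs : ¬ s ∣ (QE F).sys.H.index) {y z : GE F} (hy : y ^ r = 1) (hz : z ^ s = 1)
    (hyz : Commute y z) : ∃ g, g⁻¹ * y * g ∈ (QE F).sys.H ∧ g⁻¹ * z * g ∈ (QE F).sys.H := by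
  obtain ⟨g, hg⟩ := conj_into hr hy
  set h := g⁻¹ * y * g with hh
  set C : Subgroup (GE F) := Subgroup.centralizer {h}
  have hHC : (QE F).sys.H ≤ C := fun a ha =>
    Subgroup.mem_centralizer_singleton_iff.2 ((RE F).H_comm ha hg)
  have hzC : g⁻¹ * z * g ∈ C := Subgroup.mem_centralizer_singleton_iff.2 (by
    rw [hh]
    calc g⁻¹ * z * g * (g⁻¹ * y * g) = g⁻¹ * (z * y) * g := by group
      _ = g⁻¹ * (y * z) * g := by rw [hyz.eq]
      _ = _ := by group)
  obtain ⟨c, hc⟩ := conj_into (H := (QE F).sys.H.subgroupOf C) (z := (⟨_, hzC⟩ : C))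
    (fun hd => hs (hd.trans (Subgroup.relIndex_dvd_index_of_le hHC))) (Subtype.ext (by
      rw [SubmonoidClass.coe_pow]
      show (g⁻¹ * z * g) ^ s = 1
      rw [show g⁻¹ * z * g = g⁻¹ * z * g⁻¹⁻¹ by rw [inv_inv], conj_pow, hz, mul_one, mul_inv_cancel]))
  refine ⟨g * c, ?_, ?_⟩
  · have h1 := Subgroup.mem_centralizer_singleton_iff.1 c.2
    have e : (g * (c : GE F))⁻¹ * y * (g * c) = (c : GE F)⁻¹ * (h * c) := by rw [hh]; group
    rw [e, ← h1, ← mul_assoc, inv_mul_cancel, one_mul]
    exact hg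
  · rw [show (g * (c : GE F))⁻¹ * z * (g * c) = (c : GE F)⁻¹ * (g⁻¹ * z * g) * c by group]
    exact hc

/-- The twisting element between conjugates of fixed elements. -/
theorem twist {g : GE F} {b : Vec F} {y : ↥(chevF4.group F)}
    (h : g⁻¹ * iota F y * g = T F r b) :
    T F r b * (g⁻¹ * phi F g) = g⁻¹ * phi F g * T F r ((Nat.card F : ℤ) • b) := by
  rw [← phi_T, ← h, map_mul, map_mul, map_inv, phi_iota]
  group

/-- The eigenvector equation from the twist. -/
theorem eigen_of_rep (hr : r ∣ Nat.card (Ext F) - 1) {w : (QE F).X.M.Group} {b : Vec F}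
    (hw : (QE F).sys.rep w * T F r ((Nat.card F : ℤ) • b) * ((QE F).sys.rep w)⁻¹ = T F r b) (j) :
    (r : ℤ) ∣ (wmat (QE F) w⁻¹).mulVec b j - (Nat.card F : ℤ) * b j := by
  rw [rep_T, T_eq_iff hr] at hw
  have h1 := dvd_mulVec (wmat (QE F) w⁻¹) hw j
  rw [show (fun i => ((wmat (QE F) w).mulVec ((Nat.card F : ℤ) • b)) i - b i)
    = (wmat (QE F) w).mulVec ((Nat.card F : ℤ) • b) - b from rfl, mulVec_sub, mulVec_mulVec,
    ← wmat_mul (QE F) (det_ne_zero F), inv_mul_cancel, wmat_one (QE F) (det_ne_zero F),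
    one_mulVec] at h1
  have h2 := h1.neg_right
  simp only [Pi.sub_apply, Pi.smul_apply, smul_eq_mul, neg_sub] at h2
  exact h2

end Cfsg.Agent.H75.FFour
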