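import Cfsg.Agent.H37.Weyl.Summary
import Cfsg.Agent.Chevalley.Torus
import Cfsg.Prelude.Def_ChevF4

/-!
Tables for the Weyl group of type F4: every element is a product of certificate words; two
characteristic values avoided by all elements; pairs of roots with product of Cartan numbers 4.
-/
set_option autoImplicit false
set_option maxRecDepth 100000

namespace Cfsg.Agent.H75.FFour

open Cfsg.Lie Cfsg.Agent.H37 Cfsg.Agent.Chevalley

/-- A coordinate of the coroot of the image of a fundamental root under a word. -/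
def wordEntry (l : List ℕ) (j m : ℕ) : ℤ :=
  cor chevF4 (Weyl.Cert.act Weyl.certF4 l (chevF4.simple m)) j

/-- The determinant of a matrix of size four, expanded. -/
def det4 (a : ℕ → ℕ → ℤ) : ℤ :=
  a 0 0 * (a 1 1 * (a 2 2 * a 3 3 - a 2 3 * a 3 2) - a 1 2 * (a 2 1 * a 3 3 - a 2 3 * a 3 1)
    + a 1 3 * (a 2 1 * a 3 2 - a 2 2 * a 3 1))
  - a 0 1 * (a 1 0 * (a 2 2 * a 3 3 - a 2 3 * a 3 2) - a 1 2 * (a 2 0 * a 3 3 - a 2 3 * a 3 0)
    + a 1 3 * (a 2 0 * a 3 2 - a 2 2 * a 3 0))
  + a 0 2 * (a 1 0 * (a 2 1 * a 3 3 - a 2 3 * a 3 1) - a 1 1 * (a 2 0 * a 3 3 - a 2 3 * a 3 0)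
    + a 1 3 * (a 2 0 * a 3 1 - a 2 1 * a 3 0))
  - a 0 3 * (a 1 0 * (a 2 1 * a 3 2 - a 2 2 * a 3 1) - a 1 1 * (a 2 0 * a 3 2 - a 2 2 * a 3 0)
    + a 1 2 * (a 2 0 * a 3 1 - a 2 1 * a 3 0))

theorem det_eq_det4 (A : Matrix (Fin 4) (Fin 4) ℤ) (a : ℕ → ℕ → ℤ)
    (h : ∀ i j : Fin 4, A i j = a i j) : A.det = det4 a := by
  rw [Matrix.det_succ_row_zero, Fin.sum_univ_four, Matrix.det_fin_three, Matrix.det_fin_three,
    Matrix.det_fin_three, Matrix.det_fin_three]
  simp [Matrix.submatrix, h, det4, Fin.succAbove]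
  ring

/-- The value at 3 of the characteristic polynomial of a word. -/
def detThree (l : List ℕ) : ℤ :=
  det4 fun i j => (if i = j then 3 else 0) - wordEntry l i j

/-- The words covering the Weyl group. -/
def allWords : List (List ℕ) :=
  (Weyl.lev Weyl.certF4 0).words.flatMap fun a => (Weyl.lev Weyl.certF4 1).words.flatMap fun b =>
    (Weyl.lev Weyl.certF4 2).words.flatMap fun c => (Weyl.lev Weyl.certF4 3).words.map fun d =>
      a ++ b ++ c ++ d

theorem check_words : allWords.all (fun l => l.all (fun i => decide (i < 4)) &&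
    (let d := detThree l; (d != 130) && (d != 91) && (d != 70))) = true := by decide +kernel

/-- Two roots are equal or opposite or the product of their Cartan numbers is at most 3. -/
def pairB (a b : ℕ) : Bool :=
  (a == b) || (a + b == 47) ||
    (let p := pairingSum chevF4 a b * pairingSum chevF4 b a; decide (0 ≤ p ∧ p ≤ 3))

theorem check_pairs : ((List.range 48).all fun a => decide (pairingSum chevF4 a a = 2) &&
    (List.range 48).all (pairB a)) = true := by decide +kernel

theorem exists_word (w : CoxeterMatrix.F₄.Group) :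
    ∃ l ∈ allWords, w = Weyl.wOf CoxeterMatrix.F₄ l := by
  have hC := Weyl.goodF4
  have hw : w ∈ Weyl.K CoxeterMatrix.F₄ 4 := by rw [Weyl.K_top]; exact Subgroup.mem_top w
  obtain ⟨d, hd, h3⟩ := hC.coset_exists (k := 3) (by norm_num) hw
  obtain ⟨c, hc, h2⟩ := hC.coset_exists (k := 2) (by norm_num) h3
  obtain ⟨b, hb, h1⟩ := hC.coset_exists (k := 1) (by norm_num) h2
  obtain ⟨a, ha, h0⟩ := hC.coset_exists (k := 0) (by norm_num) h1
  rw [Weyl.K_zero, Subgroup.mem_bot] at h0
  refine ⟨(Weyl.lev Weyl.certF4 0).word a ++ (Weyl.lev Weyl.certF4 1).word b ++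
    (Weyl.lev Weyl.certF4 2).word c ++ (Weyl.lev Weyl.certF4 3).word d, ?_, ?_⟩
  · simp only [allWords, List.mem_flatMap, List.mem_map]
    exact ⟨_, by rw [Weyl.Level.word_eq _ ha]; exact List.getElem_mem ha,
      _, by rw [Weyl.Level.word_eq _ hb]; exact List.getElem_mem hb,
      _, by rw [Weyl.Level.word_eq _ hc]; exact List.getElem_mem hc,
      _, by rw [Weyl.Level.word_eq _ hd]; exact List.getElem_mem hd, rfl⟩
  · simp only [Weyl.wOf_append]
    have e : ∀ {x y : CoxeterMatrix.F₄.Group}, x * y⁻¹ = 1 → x = y := fun h => mul_inv_eq_one.1 h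
    have e0 := e h0
    rw [← e0]
    group

end Cfsg.Agent.H75.FFour
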