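import Cfsg.Agent.H75.FFour.Setup
import Cfsg.Agent.H75.FFour.Table
import Cfsg.Agent.H75.FFour.Poly

/-!
The tables of the Weyl group of type F4 transferred to the integer matrices of the torus.
-/
set_option autoImplicit false
set_option maxRecDepth 100000

namespace Cfsg.Agent.H75.FFour

open Cfsg.Lie Cfsg.Agent.H37 Cfsg.Agent.H37.RootSys Cfsg.Agent.Chevalley.Weights Matrix
open Cfsg.Agent.Chevalley.TwTorus
open Cfsg.Agent.Chevalley (cor pairingSum)
open Polynomial (cyclotomic)

variable (F : Type*) [Field F] [Fintype F] [CharP F 2]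

theorem wmat_word (w : (QE F).X.M.Group) :
    ∃ l ∈ allWords, ∀ j m : Fin (QE F).X.n, wmat (QE F) w j m = wordEntry l j m := by
  obtain ⟨l, hl, e⟩ := exists_word w
  refine ⟨l, hl, fun j m => ?_⟩
  have hlt : ∀ i ∈ l, i < 4 := fun i hi => by
    have h := List.all_eq_true.1 check_words l hl
    simp only [Bool.and_eq_true, List.all_eq_true, decide_eq_true_eq] at h
    exact h.1 i hi
  show cor chevF4 (act (QE F).X.good w (chevF4.simple m)) j = _
  rw [act_eq _ (simple_lt (QE F).X.good m), e]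
  exact congrArg (fun x => cor chevF4 x j) (Weyl.goodF4.hom_wOf_val hlt _)

/-- Values avoided by the characteristic polynomials. -/
theorem det_three_ne (w : (QE F).X.M.Group) :
    ((3 : ℤ) • (1 : Matrix (Fin (QE F).X.n) (Fin (QE F).X.n) ℤ) - wmat (QE F) w).det ≠ 130 ∧
    ((3 : ℤ) • (1 : Matrix (Fin (QE F).X.n) (Fin (QE F).X.n) ℤ) - wmat (QE F) w).det ≠ 91 ∧
    ((3 : ℤ) • (1 : Matrix (Fin (QE F).X.n) (Fin (QE F).X.n) ℤ) - wmat (QE F) w).det ≠ 70 := by
  obtain ⟨l, hl, e⟩ := wmat_word F w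
  have key : ∀ i j : Fin (QE F).X.n,
      ((3 : ℤ) • (1 : Matrix (Fin (QE F).X.n) (Fin (QE F).X.n) ℤ) - wmat (QE F) w) i j
        = (if (i : ℕ) = j then 3 else 0) - wordEntry l i j := by
    intro i j
    rw [Matrix.sub_apply, Matrix.smul_apply, Matrix.one_apply, e i j]
    simp [Fin.val_inj]
  have h : ((3 : ℤ) • (1 : Matrix (Fin (QE F).X.n) (Fin (QE F).X.n) ℤ) - wmat (QE F) w).det
      = detThree l :=
    det_eq_det4 _ _ key
  have h2 := List.all_eq_true.1 check_words l hl
  simp only [Bool.and_eq_true, bne_iff_ne] at h2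
  rw [h]
  exact ⟨h2.2.1.1, h2.2.1.2, h2.2.2⟩

omit F in
theorem pair_cases {a b : ℕ} (ha : a < 48) (hb : b < 48) :
    a = b ∨ a + b = 47 ∨
      (0 ≤ pairingSum chevF4 a b * pairingSum chevF4 b a ∧
        pairingSum chevF4 a b * pairingSum chevF4 b a ≤ 3) := by
  have h := List.all_eq_true.1 check_pairs a (List.mem_range.2 ha)
  simp only [Bool.and_eq_true, List.all_eq_true, List.mem_range] at h
  have h2 := h.2 b hb
  simp only [pairB, Bool.or_eq_true, beq_iff_eq, decide_eq_true_eq] at h2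
  tauto

omit F in
theorem pairing_self {a : ℕ} (ha : a < 48) : pairingSum chevF4 a a = 2 := by
  have h := List.all_eq_true.1 check_pairs a (List.mem_range.2 ha)
  simp only [Bool.and_eq_true, decide_eq_true_eq] at h
  exact h.1

/-- The coordinates of a coroot. -/
def corVec (a : ℕ) : Vec F := fun j => cor chevF4 a j

theorem pr_corVec (a b : ℕ) : pr (QE F).X.n chevF4 b (corVec F a) = pairingSum chevF4 a b :=
  Fin.sum_univ_eq_sum_range (fun j => cor chevF4 a j * chevF4.cartan j b) 4

theorem wmat_pow_card (w : (QE F).X.M.Group) : wmat (QE F) w ^ 1152 = 1 := by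
  haveI := (QE F).X.good.finite
  rw [← wmat_pow (QE F) (det_ne_zero F), ← card_weyl F, pow_card_eq_one', wmat_one (QE F) (det_ne_zero F)]

end Cfsg.Agent.H75.FFour
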